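/-! Certificates for the central extensions of `Cfsg.Spor.Fi22`. -/

set_option autoImplicit false

namespace CfsgLib.Coset.Fi22.Schur

/-- Conjugators from the transposition to the generators. -/
def cW : List (List Nat) :=
  [[], [0, 1], [1, 2, 0, 1], [2, 3, 1, 2, 0, 1], [3, 4, 2, 3, 1, 2, 0, 1], [4, 5, 3, 4, 2, 3, 1, 2, 0, 1], [5, 6, 4, 5, 3, 4, 2, 3, 1, 2, 0, 1], [3, 7, 2, 3, 1, 2, 0, 1], [7, 8, 3, 7, 2, 3, 1, 2, 0, 1]]

/-- Seven commuting transpositions with product one. -/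
def seven : List (List Nat × Nat) :=
  [([5, 4, 3, 7, 2, 3, 4, 1, 2, 3, 7, 5, 4, 3, 2, 1], 0), ([1, 2, 3, 7, 4, 3, 2, 1], 0), ([3, 7, 4, 3], 2), ([], 0), ([], 2), ([], 4), ([], 7)]

/-- The word of the spider relator. -/
def spiderW : List Nat :=
  [3, 2, 1, 3, 4, 5, 3, 7, 8]

/-- The word of the first Coxeter relator. -/
def coxA : List Nat :=
  [0, 1, 2, 3, 4, 5, 7]

/-- The word of the second Coxeter relator. -/
def coxB : List Nat :=
  [1, 2, 3, 4, 5, 6, 7]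

/-- A conjugator inverting the first Coxeter element. -/
def kA : List Nat :=
  [7, 4, 5, 4, 0, 1, 2, 0, 1, 0]

/-- A conjugator inverting the second Coxeter element. -/
def kB : List Nat :=
  [7, 7, 2, 1, 2, 6, 5, 4, 6, 5, 6, 7]

/-- The transpositions of the triangle on one arm. -/
def triA : List (List Nat × Nat) :=
  [([], 4), ([], 5), ([3, 7, 8, 2, 3, 7, 4, 3, 2], 1)]

/-- The transpositions of the triangle on another arm. -/
def triB : List (List Nat × Nat) :=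
  [([], 7), ([], 8), ([3, 4, 2, 3, 7, 5, 4, 3, 2], 1)]

/-- The first triangle moved to the other arm by the symmetry of the diagram. -/
def triC : List (List Nat × Nat) :=
  [([], 7), ([], 8), ([3, 4, 5, 2, 3, 4, 7, 3, 2], 1)]

/-- Translations as products of two transpositions. -/
def trans : List (Nat × List Nat × Nat) :=
  [(2, [3, 7, 8, 4, 3, 7, 5, 4, 3, 2], 1), (3, [7, 8, 4, 2, 3, 7, 5, 4, 3, 2], 1), (4, [5, 3, 7, 8, 2, 3, 7, 4, 3, 2], 1), (5, [4, 3, 7, 8, 2, 3, 7, 4, 3, 2], 1), (8, [7, 3, 4, 2, 3, 7, 5, 4, 3, 2], 1), (7, [8, 3, 4, 5, 2, 3, 4, 7, 3, 2], 1), (8, [7, 3, 4, 5, 2, 3, 4, 7, 3, 2], 1)]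


end CfsgLib.Coset.Fi22.Schur
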