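/-! Nine matrices of size 27 over the field with four elements: rows as pairs of bit masks. -/

set_option autoImplicit false

namespace CfsgLib.Coset.Fi22.Schur

/-- The matrices of the generators. -/
def gensM : List (List (Nat × Nat)) :=
  [
  [(1, 1392638), (10239, 4898817), (72191, 10665985), (269951, 19447809), (338655, 36323329), (1056687, 29409281), (341343, 69894145), (1125303, 46284801), (1127911, 79855617), (1322683, 55066625), (1324907, 88637441), (1383101, 60833793), (1383789, 94404609), (1386451, 105512961), (65718974, 2750), (99276142, 5486), (1391061, 111280129), (116122070, 74198), (1392217, 120061953), (124708442, 271962), (1392545, 130023425), (128964700, 333916), (131786658, 1058722), (133421476, 1120676), (134012456, 1318440), (134179472, 1387152), (134198592, 1389888)],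
  [(2, 0), (1, 0), (4, 0), (8, 0), (16, 0), (32, 0), (64, 0), (128, 0), (256, 0), (512, 0), (1024, 0), (16384, 0), (32768, 0), (8192, 0), (2048, 0), (4096, 0), (131072, 0), (65536, 0), (524288, 0), (262144, 0), (4194304, 0), (2097152, 0), (1048576, 0), (8388608, 0), (16777216, 0), (33554432, 0), (67108864, 0)],
  [(1, 0), (4, 0), (2, 0), (8, 0), (16, 0), (32, 0), (64, 0), (128, 0), (256, 0), (2048, 0), (4096, 0), (512, 0), (1024, 0), (65536, 0), (16384, 0), (32768, 0), (8192, 0), (131072, 0), (262144, 0), (2097152, 0), (1048576, 0), (524288, 0), (8388608, 0), (4194304, 0), (16777216, 0), (33554432, 0), (67108864, 0)],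
  [(1, 0), (2, 0), (8, 0), (4, 0), (16, 0), (32, 0), (64, 0), (512, 0), (1024, 0), (128, 0), (256, 0), (2048, 0), (4096, 0), (8192, 0), (16384, 0), (32768, 0), (262144, 0), (524288, 0), (65536, 0), (131072, 0), (1048576, 0), (2097152, 0), (4194304, 0), (16777216, 0), (8388608, 0), (33554432, 0), (67108864, 0)],
  [(1, 0), (2, 0), (4, 0), (16, 0), (8, 0), (128, 0), (64, 0), (32, 0), (256, 0), (512, 0), (8192, 0), (2048, 0), (65536, 0), (1024, 0), (16384, 0), (131072, 0), (4096, 0), (32768, 0), (262144, 0), (524288, 0), (1048576, 0), (2097152, 0), (4194304, 0), (8388608, 0), (33554432, 0), (16777216, 0), (67108864, 0)],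
  [(1, 0), (2, 0), (4, 0), (8, 0), (64, 0), (32, 0), (16, 0), (256, 0), (128, 0), (1024, 0), (512, 0), (4096, 0), (2048, 0), (8192, 0), (32768, 0), (16384, 0), (65536, 0), (131072, 0), (262144, 0), (524288, 0), (1048576, 0), (2097152, 0), (4194304, 0), (8388608, 0), (16777216, 0), (67108864, 0), (33554432, 0)],
  [(2751, 1389888), (17087, 4891968), (18623, 10719552), (19007, 19698752), (19103, 36642880), (19119, 30446848), (3126623, 67108895), (19127, 47390976), (13874663, 67109031), (19131, 56370176), (22853483, 67109419), (19133, 62197760), (28679533, 67110957), (39790547, 67109523), (19134, 65699840), (32167278, 67125294), (45562325, 67111061), (49013206, 67125398), (54345305, 67111449), (57599578, 67125786), (64307105, 67111585), (61855836, 67127324), (64677794, 67125922), (66312612, 67127460), (66903592, 67127848), (67070608, 67127952), (134198592, 67089728)],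
  [(1, 0), (2, 0), (4, 0), (32, 0), (128, 0), (8, 0), (256, 0), (16, 0), (64, 0), (512, 0), (1024, 0), (2048, 0), (4096, 0), (8192, 0), (16384, 0), (32768, 0), (65536, 0), (131072, 0), (1048576, 0), (4194304, 0), (262144, 0), (8388608, 0), (524288, 0), (2097152, 0), (16777216, 0), (33554432, 0), (67108864, 0)],
  [(0, 1048576), (0, 4194304), (0, 8388608), (0, 16777216), (0, 33554432), (32, 0), (0, 67108864), (128, 0), (256, 0), (512, 0), (1024, 0), (2048, 0), (4096, 0), (8192, 0), (16384, 0), (32768, 0), (65536, 0), (131072, 0), (262144, 0), (524288, 0), (1, 1), (2097152, 0), (2, 2), (4, 4), (8, 8), (16, 16), (64, 64)]]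


end CfsgLib.Coset.Fi22.Schur
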