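import Cfsg.Agent.Coset.Table
import Mathlib.Data.Nat.Bitwise
import Mathlib.Tactic.IntervalCases
import Mathlib.Tactic.Ring
import Mathlib.GroupTheory.Perm.Basic

/-!
Matrices over the field with four elements as lists of rows, a row being a pair of bit masks for the
two coordinates of its entries, acting on row vectors of the same shape.
-/

set_option autoImplicit false

namespace CfsgLib.Coset.Fi22.Schur

open CfsgLib.Coset

section Kernel

/-- The bitwise sum of two rows. -/
noncomputable def radd (p q : Nat × Nat) : Nat × Nat := (Nat.xor p.1 q.1, Nat.xor p.2 q.2)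

/-- A row times the scalar with coordinates `a`, `b`. -/
noncomputable def rscale (a b : Nat) (r : Nat × Nat) : Nat × Nat :=
  radd (cond (Nat.beq a 1) r (0, 0)) (cond (Nat.beq b 1) (r.2, Nat.xor r.1 r.2) (0, 0))

/-- A row vector times a matrix. -/
noncomputable def vmul (v : Nat × Nat) (A : List (Nat × Nat)) : Nat × Nat :=
  List.rec (fun _ => (0, 0)) (fun r _ ih v =>
    radd (rscale (Nat.mod v.1 2) (Nat.mod v.2 2) r) (ih (Nat.div v.1 2, Nat.div v.2 2))) A v

/-- A product of matrices. -/
noncomputable def mmul (A B : List (Nat × Nat)) : List (Nat × Nat) :=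
  List.rec [] (fun r _ ih => vmul r B :: ih) A

/-- The rows `2 ^ s, 2 ^ (s + 1), …` of a scalar matrix. -/
noncomputable def scalarRows (a b : Nat) (k : Nat) : Nat → List (Nat × Nat) :=
  Nat.rec (fun _ => []) (fun _ ih s => rscale a b (Nat.pow 2 s, 0) :: ih (Nat.add s 1)) k

/-- The matrix of a word. -/
noncomputable def matW (M : List (List (Nat × Nat))) (n : Nat) (w : List Nat) : List (Nat × Nat) :=
  List.rec (scalarRows 1 0 n 0) (fun l _ ih => mmul ih (M.getD l [])) w

/-- Two matrices are the same. -/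
noncomputable def sameM (A B : List (Nat × Nat)) : Bool :=
  List.rec (fun B => cond (Nat.beq B.length 0) true false) (fun r _ ih B =>
    match B with
    | [] => false
    | q :: B => cond (Nat.beq r.1 q.1) (cond (Nat.beq r.2 q.2) (ih B) false) false) A B

end Kernel

theorem eq_of_sameM : ∀ {A B : List (Nat × Nat)}, sameM A B = true → A = B
  | [], [], _ => rfl
  | [], q :: B, h => by
    simp [sameM] at h
  | r :: A, [], h => by
    simp [sameM] at h
  | (a, b) :: A, (c, d) :: B, h => by
    change cond (Nat.beq a c) (cond (Nat.beq b d) (sameM A B) false) false = true at h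
    obtain ⟨h1, h2⟩ := cond_false_eq_true.mp h
    obtain ⟨h2, h3⟩ := cond_false_eq_true.mp h2
    rw [Nat.eq_of_beq_eq_true h1, Nat.eq_of_beq_eq_true h2, eq_of_sameM h3]

theorem radd_comm (p q : Nat × Nat) : radd p q = radd q p :=
  Prod.ext (Nat.xor_comm _ _) (Nat.xor_comm _ _)

theorem radd_assoc (p q r : Nat × Nat) : radd (radd p q) r = radd p (radd q r) :=
  Prod.ext (Nat.xor_assoc _ _ _) (Nat.xor_assoc _ _ _)

theorem radd_zero (p : Nat × Nat) : radd p (0, 0) = p :=
  Prod.ext (Nat.xor_zero _) (Nat.xor_zero _)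

theorem zero_radd (p : Nat × Nat) : radd (0, 0) p = p := by rw [radd_comm, radd_zero]

theorem radd_self (p : Nat × Nat) : radd p p = (0, 0) :=
  Prod.ext (Nat.xor_self _) (Nat.xor_self _)

theorem radd_swap (p q r s : Nat × Nat) :
    radd (radd p q) (radd r s) = radd (radd p r) (radd q s) := by
  rw [radd_assoc, ← radd_assoc q r s, radd_comm q r, radd_assoc r q s, ← radd_assoc]

theorem xor_div_two (a b : Nat) : (a ^^^ b) / 2 = a / 2 ^^^ b / 2 := by
  refine Nat.eq_of_testBit_eq fun i => ?_
  simp [Nat.testBit_div_two, Nat.testBit_xor]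

theorem xor_mod_two (a b : Nat) : (a ^^^ b) % 2 = (a % 2) ^^^ (b % 2) := by
  refine Nat.eq_of_testBit_eq fun i => ?_
  cases i <;> simp [Nat.testBit_xor, Nat.testBit_mod_two_pow (j := 1)]

theorem beq_zero_one : Nat.beq 0 1 = false := rfl

theorem beq_one_one : Nat.beq 1 1 = true := rfl

theorem rscale_xor (r : Nat × Nat) {a b c d : Nat} (ha : a < 2) (hb : b < 2) (hc : c < 2)
    (hd : d < 2) : rscale (a ^^^ c) (b ^^^ d) r = radd (rscale a b r) (rscale c d r) := by
  obtain ⟨x, y⟩ := r
  interval_cases a <;> interval_cases b <;> interval_cases c <;> interval_cases d <;>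
    simp [beq_zero_one, beq_one_one, rscale, radd, Nat.xor_comm, Nat.xor_assoc, Nat.xor_left_comm]

theorem vmul_cons (v r : Nat × Nat) (A : List (Nat × Nat)) :
    vmul v (r :: A) = radd (rscale (v.1 % 2) (v.2 % 2) r) (vmul (v.1 / 2, v.2 / 2) A) := rfl

theorem vmul_add : ∀ (A : List (Nat × Nat)) (v w : Nat × Nat),
    vmul (radd v w) A = radd (vmul v A) (vmul w A)
  | [], _, _ => (radd_zero _).symm
  | r :: A, v, w => by
    rw [vmul_cons, vmul_cons, vmul_cons, radd_swap, ← rscale_xor r (Nat.mod_lt _ two_pos)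
      (Nat.mod_lt _ two_pos) (Nat.mod_lt _ two_pos) (Nat.mod_lt _ two_pos), ← vmul_add A,
      ← xor_mod_two, ← xor_mod_two]
    congr 2
    exact Prod.ext (xor_div_two _ _) (xor_div_two _ _)

theorem vmul_zero : ∀ A : List (Nat × Nat), vmul (0, 0) A = (0, 0)
  | [] => rfl
  | r :: A => by
    rw [vmul_cons]
    show radd (rscale 0 0 r) (vmul (0, 0) A) = _
    rw [vmul_zero A, radd_zero]
    simp [beq_zero_one, beq_one_one, rscale, radd]

/-- The nonreal scalar applied to a row. -/
noncomputable def omg (r : Nat × Nat) : Nat × Nat := (r.2, Nat.xor r.1 r.2)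

theorem rscale_omg {a b : Nat} (ha : a < 2) (hb : b < 2) (r : Nat × Nat) :
    omg (rscale a b r) = rscale b (a ^^^ b) r := by
  obtain ⟨x, y⟩ := r
  interval_cases a <;> interval_cases b <;>
    simp [beq_zero_one, beq_one_one, rscale, radd, omg, Nat.xor_comm, Nat.xor_left_comm, Nat.xor_assoc]

theorem vmul_omg : ∀ (A : List (Nat × Nat)) (v : Nat × Nat), vmul (omg v) A = omg (vmul v A)
  | [], _ => by simp [omg, vmul]
  | r :: A, v => by
    rw [vmul_cons, vmul_cons]
    have e : ∀ p q : Nat × Nat, omg (radd p q) = radd (omg p) (omg q) := by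
      intro p q
      refine Prod.ext rfl ?_
      show Nat.xor (Nat.xor _ _) (Nat.xor _ _) = Nat.xor (Nat.xor _ _) (Nat.xor _ _)
      simp only [show ∀ m n : Nat, Nat.xor m n = m ^^^ n from fun _ _ => rfl]
      rw [Nat.xor_assoc, Nat.xor_assoc]
      congr 1
      rw [Nat.xor_left_comm]
    rw [e, rscale_omg (Nat.mod_lt _ two_pos) (Nat.mod_lt _ two_pos), ← vmul_omg A]
    congr 1
    · congr 1
      exact xor_mod_two _ _
    · congr 1
      exact Prod.ext rfl (xor_div_two _ _)

theorem vmul_scale (A : List (Nat × Nat)) {a b : Nat} (ha : a < 2) (hb : b < 2) (v : Nat × Nat) :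
    vmul (rscale a b v) A = rscale a b (vmul v A) := by
  have e : ∀ r : Nat × Nat, rscale a b r =
      radd (cond (Nat.beq a 1) r (0, 0)) (cond (Nat.beq b 1) (omg r) (0, 0)) := fun _ => rfl
  rw [e, e, vmul_add]
  congr 1
  · cases Nat.beq a 1
    · exact vmul_zero A
    · rfl
  · cases Nat.beq b 1
    · exact vmul_zero A
    · exact vmul_omg A v

theorem vmul_mmul : ∀ (A B : List (Nat × Nat)) (v : Nat × Nat),
    vmul (vmul v A) B = vmul v (mmul A B)
  | [], B, v => vmul_zero B
  | r :: A, B, v => by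
    show _ = vmul v (vmul r B :: mmul A B)
    rw [vmul_cons, vmul_cons, vmul_add, vmul_mmul A B,
      vmul_scale B (Nat.mod_lt _ two_pos) (Nat.mod_lt _ two_pos)]

theorem vmul_scalarRows : ∀ (k s : Nat) {a b : Nat}, a < 2 → b < 2 → ∀ v : Nat × Nat,
    v.1 < 2 ^ k → v.2 < 2 ^ k →
    vmul v (scalarRows a b k s) = rscale a b (v.1 <<< s, v.2 <<< s)
  | 0, s, a, b, _, _, v, h1, h2 => by
    obtain ⟨x, y⟩ := v
    have hx : x = 0 := by simpa using h1
    have hy : y = 0 := by simpa using h2
    subst hx hy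
    simp [scalarRows, vmul, rscale, radd, beq_zero_one, beq_one_one]
  | k + 1, s, a, b, ha, hb, v, h1, h2 => by
    show vmul v (rscale a b (2 ^ s, 0) :: scalarRows a b k (s + 1)) = _
    rw [vmul_cons, vmul_scalarRows k (s + 1) ha hb (v.1 / 2, v.2 / 2)
      (by rw [pow_succ] at h1; show v.1 / 2 < _; omega)
      (by rw [pow_succ] at h2; show v.2 / 2 < _; omega)]
    have split : ∀ x : Nat, x <<< s = (x % 2) <<< s ^^^ (x / 2) <<< (s + 1) := by
      intro x
      refine Nat.eq_of_testBit_eq fun i => ?_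
      simp only [Nat.testBit_xor, Nat.testBit_shiftLeft, Nat.testBit_div_two, ge_iff_le]
      rcases Nat.lt_trichotomy i s with h | h | h
      · simp [show ¬ s ≤ i by omega, show ¬ s + 1 ≤ i by omega]
      · subst h
        simp [show ¬ i + 1 ≤ i by omega, Nat.testBit_mod_two_pow (j := 1)]
      · have h3 : i - (s + 1) + 1 = i - s := by omega
        have h4 : ¬ i - s < 1 := by omega
        simp [show s ≤ i by omega, show s + 1 ≤ i by omega, h3,
          Nat.testBit_mod_two_pow (j := 1), h4]
    have key : ∀ p q : Nat × Nat, rscale a b (radd p q) = radd (rscale a b p) (rscale a b q) := by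
      intro p q
      obtain ⟨p1, p2⟩ := p
      obtain ⟨q1, q2⟩ := q
      interval_cases a <;> interval_cases b <;>
        simp [beq_zero_one, beq_one_one, rscale, radd, Nat.xor_comm, Nat.xor_assoc, Nat.xor_left_comm]
    rw [show (v.1 <<< s, v.2 <<< s) = radd ((v.1 % 2) <<< s, (v.2 % 2) <<< s)
      ((v.1 / 2) <<< (s + 1), (v.2 / 2) <<< (s + 1)) from Prod.ext (split v.1) (split v.2), key]
    congr 1
    have h1 := Nat.mod_lt v.1 two_pos
    have h2 := Nat.mod_lt v.2 two_pos
    generalize v.1 % 2 = c at h1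
    generalize v.2 % 2 = d at h2
    interval_cases a <;> interval_cases b <;> interval_cases c <;> interval_cases d <;>
      simp [beq_zero_one, beq_one_one, rscale, radd, Nat.shiftLeft_eq]

end CfsgLib.Coset.Fi22.Schur
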