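import Cfsg.Agent.Coset.Fi22.Order
import Cfsg.Agent.Coset.Fi22.Schur.Data
import Cfsg.Agent.Coset.Fi22.Schur.MatData
import Cfsg.Agent.Coset.Fi22.Schur.Packed
import Cfsg.Prelude.Def_KGroupFacts
import Mathlib.GroupTheory.Abelianization.Defs

/-!
A triple cover of `Cfsg.Spor.Fi22`, generated by nine involutory linear maps in dimension 27 over
the field with four elements.
-/

set_option autoImplicit false
set_option maxRecDepth 100000
set_option Elab.async false

namespace CfsgLib.Coset.Fi22.Schur

open CfsgLib.Coset Fi22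

/-- The row vectors of length 27. -/
abbrev Vec : Type := {v : Nat × Nat // v.1 < 2 ^ 27 ∧ v.2 < 2 ^ 27}

instance : Finite Vec :=
  Finite.of_injective (fun v => ((⟨v.1.1, v.2.1⟩ : Fin (2 ^ 27)), (⟨v.1.2, v.2.2⟩ : Fin (2 ^ 27))))
    fun v w h => by
      simp only [Prod.mk.injEq, Fin.mk.injEq] at h
      exact Subtype.ext (Prod.ext h.1 h.2)

section Kernel

/-- The matrix of a generator. -/
noncomputable def mat (l : Nat) : List (Nat × Nat) := gensM.getD l (scalarRows 1 0 27 0)

/-- The identity matrix. -/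
noncomputable def idM : List (Nat × Nat) := scalarRows 1 0 27 0

/-- The matrix of a word in the nine generators. -/
noncomputable def matOf (w : List Nat) : List (Nat × Nat) := matW ((List.range 9).map mat) 27 w

/-- All rows have length 27. -/
noncomputable def rowsOK (A : List (Nat × Nat)) : Bool :=
  allList (fun r => cond (Nat.ble (Nat.add r.1 1) (Nat.pow 2 27))
    (Nat.ble (Nat.add r.2 1) (Nat.pow 2 27)) false) A

/-- The word of the spider relator. -/
def spiderP : List Nat := (List.replicate 10 spiderW).flatten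

end Kernel

theorem mat_ok : allBelow 4 9 (fun l => cond (rowsOK (mat l)) (sameM (mmul (mat l) (mat l)) idM)
    false) = true := by decide +kernel

theorem rscale_lt {n : Nat} {r : Nat × Nat} (h1 : r.1 < 2 ^ n) (h2 : r.2 < 2 ^ n) (a b : Nat) :
    (rscale a b r).1 < 2 ^ n ∧ (rscale a b r).2 < 2 ^ n := by
  have h0 : 0 < 2 ^ n := Nat.two_pow_pos n
  have h3 : Nat.xor r.1 r.2 < 2 ^ n := Nat.xor_lt_two_pow h1 h2
  refine ⟨Nat.xor_lt_two_pow ?_ ?_, Nat.xor_lt_two_pow ?_ ?_⟩
  all_goals first
    | (cases Nat.beq a 1 <;> assumption)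
    | (cases Nat.beq b 1 <;> assumption)

theorem vmul_lt : ∀ {A : List (Nat × Nat)}, rowsOK A = true → ∀ v : Nat × Nat,
    (vmul v A).1 < 2 ^ 27 ∧ (vmul v A).2 < 2 ^ 27
  | [], _, _ => ⟨Nat.two_pow_pos _, Nat.two_pow_pos _⟩
  | r :: A, h, v => by
    have hr := cond_false_eq_true.mp (allList_iff.mp h r (by simp))
    have hA : rowsOK A = true := allList_iff.mpr fun x hx => allList_iff.mp h x (by simp [hx])
    have h1 := rscale_lt (Nat.ble_eq.mp hr.1) (Nat.ble_eq.mp hr.2) (v.1 % 2) (v.2 % 2)
    have h2 := vmul_lt hA (v.1 / 2, v.2 / 2)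
    rw [vmul_cons]
    exact ⟨Nat.xor_lt_two_pow h1.1 h2.1, Nat.xor_lt_two_pow h1.2 h2.2⟩

theorem vmul_idM (v : Vec) : vmul v.1 idM = v.1 := by
  rw [idM, vmul_scalarRows 27 0 (by norm_num) (by norm_num) _ v.2.1 v.2.2]
  simp [rscale, radd, beq_zero_one, beq_one_one]

/-- A generator as a permutation. -/
noncomputable def pg (l : Fin 9) : Equiv.Perm Vec :=
  have h := cond_false_eq_true.mp (of_allBelow mat_ok l l.2)
  have hinv : ∀ v : Vec, vmul (vmul v.1 (mat l)) (mat l) = v.1 := fun v => by
    rw [vmul_mmul, eq_of_sameM h.2, vmul_idM]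
  { toFun := fun v => ⟨vmul v.1 (mat l), vmul_lt h.1 v.1⟩
    invFun := fun v => ⟨vmul v.1 (mat l), vmul_lt h.1 v.1⟩
    left_inv := fun v => Subtype.ext (hinv v)
    right_inv := fun v => Subtype.ext (hinv v) }

theorem pg_apply (l : Fin 9) (v : Vec) : (pg l v).1 = vmul v.1 (mat l) := rfl

/-- The generators. -/
noncomputable def PL : List (Equiv.Perm Vec) := List.ofFn pg

theorem len_PL : PL.length = 9 := by simp [PL]

theorem matW_cons (l : Nat) (w : List Nat) :
    matOf (l :: w) = mmul (matOf w) (((List.range 9).map mat).getD l []) := rfl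

theorem ev_PL_apply : ∀ w : List Nat, (∀ l ∈ w, l < 9) → ∀ v : Vec,
    (ev PL w v).1 = vmul v.1 (matOf w)
  | [], _, v => by rw [ev_nil, Equiv.Perm.one_apply]; exact (vmul_idM v).symm
  | l :: w, h, v => by
    have hl : l < 9 := h l (by simp)
    have e : fl PL l = pg ⟨l, hl⟩ := by
      rw [fl, List.getD_eq_getElem _ _ (len_PL.symm ▸ hl)]
      exact List.getElem_ofFn _
    rw [ev_cons, Equiv.Perm.mul_apply, e, pg_apply, ev_PL_apply w (fun x hx => h x (by simp [hx])),
      matW_cons, vmul_mmul]
    simp [List.getD_eq_getElem?_getD, hl]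

/-- Two words have the same matrix. -/
noncomputable def eqM (u w : List Nat) : Bool :=
  cond (checkLetters 9 [u, w]) (sameM (matOf u) (matOf w)) false

theorem ev_eq_of_eqM {u w : List Nat} (h : eqM u w = true) : ev PL u = ev PL w := by
  obtain ⟨h1, h2⟩ := cond_false_eq_true.mp h
  refine Equiv.ext fun v => Subtype.ext ?_
  rw [ev_PL_apply u (letters_lt h1 _ (by simp)), ev_PL_apply w (letters_lt h1 _ (by simp)),
    eq_of_sameM h2]

theorem triple_rels : allList (fun w => cond (wordEq w spiderP) true (eqM w [])) rels = true := by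
  decide +kernel

theorem spider_facts : eqM ((List.replicate 3 spiderP).flatten) [] = true ∧
    allBelow 4 9 (fun l => eqM (spiderP ++ [l]) ([l] ++ spiderP)) = true := by
  constructor <;> decide +kernel

theorem spider_moves : Nat.beq (vmul (1, 0) (matOf spiderP)).2 0 = false ∧
    checkLetters 9 [spiderP] = true ∧ Nat.beq spiderP.length 90 = true := by
  refine ⟨?_, ?_, ?_⟩ <;> decide +kernel

theorem gen_moves : Nat.beq (vmul (1, 0) (matOf [0])).2 0 = false := by decide +kernel

/-- The linear group. -/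
noncomputable def S3 : Subgroup (Equiv.Perm Vec) := Subgroup.closure {x | x ∈ PL}

/-- The generators in the linear group. -/
noncomputable def LS : List S3 := (List.range 9).map fun l => ⟨fl PL l, mem_closure_fl l⟩

theorem coe_fl_LS (l : Nat) : ((fl LS l : S3) : Equiv.Perm Vec) = fl PL l := by
  rcases lt_or_ge l 9 with hl | hl
  · simp [fl, LS, List.getD_eq_getElem?_getD, hl]
  · rw [fl_of_le _ (by simpa [LS] using hl), fl_of_le _ (len_PL.symm ▸ hl)]; rfl

theorem coe_ev_LS (w : List Nat) : ((ev LS w : S3) : Equiv.Perm Vec) = ev PL w := by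
  induction w with
  | nil => simp
  | cons l w ih => simp [ev_cons, coe_fl_LS, ih]

theorem closure_LS : Subgroup.closure {x | x ∈ LS} = ⊤ := by
  apply Subgroup.map_injective S3.subtype_injective
  rw [MonoidHom.map_closure, ← MonoidHom.range_eq_map, Subgroup.range_subtype]
  conv_rhs => rw [S3]
  congr 1
  ext x
  constructor
  · rintro ⟨y, hy, rfl⟩
    obtain ⟨l, hl, rfl⟩ := List.mem_map.mp hy
    show fl PL l ∈ PL
    rw [fl, List.getD_eq_getElem _ _ (len_PL.symm ▸ List.mem_range.mp hl)]
    exact List.getElem_mem _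
  · intro hx
    obtain ⟨l, hl, rfl⟩ := List.getElem_of_mem hx
    refine ⟨⟨fl PL l, mem_closure_fl l⟩, List.mem_map.mpr
      ⟨l, List.mem_range.mpr (len_PL ▸ hl), rfl⟩, ?_⟩
    show fl PL l = _
    rw [fl, List.getD_eq_getElem _ _ hl]

theorem LS_eq_of_eqM {u w : List Nat} (h : eqM u w = true) : ev LS u = ev LS w :=
  Subtype.ext (by rw [coe_ev_LS, coe_ev_LS, ev_eq_of_eqM h])

/-- The scalar. -/
noncomputable def om : S3 := ev LS spiderP

theorem om_cube : om ^ 3 = 1 := by rw [om, pow_ev, LS_eq_of_eqM spider_facts.1, ev_nil]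

theorem om_ne_one : om ≠ 1 := by
  intro h
  have h1 : (ev PL spiderP ⟨(1, 0), by norm_num⟩ : Vec).1 = (1, 0) := by
    rw [← coe_ev_LS, show ev LS spiderP = 1 from h]; rfl
  rw [ev_PL_apply _ (letters_lt spider_moves.2.1 _ (by simp))] at h1
  have h2 := spider_moves.1
  rw [show (vmul (1, 0) (matOf spiderP)).2 = 0 from congrArg Prod.snd h1] at h2
  exact absurd h2 (by simp)

theorem orderOf_om : orderOf om = 3 :=
  haveI : Fact (Nat.Prime 3) := ⟨Nat.prime_three⟩
  orderOf_eq_prime om_cube om_ne_one

theorem om_center : om ∈ Subgroup.center S3 := by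
  rw [Subgroup.mem_center_iff]
  intro g
  induction (closure_LS.symm ▸ Subgroup.mem_top g : g ∈ Subgroup.closure {x | x ∈ LS})
    using Subgroup.closure_induction with
  | mem x hx =>
    obtain ⟨l, hl, rfl⟩ := List.getElem_of_mem hx
    have hl' : l < 9 := by simpa [LS] using hl
    have h := LS_eq_of_eqM (of_allBelow spider_facts.2 l hl')
    rw [ev_append, ev_append, ev_cons, ev_nil, mul_one, fl, List.getD_eq_getElem _ _ hl] at h
    exact h.symm
  | one => simp
  | mul a b _ _ ha hb => rw [mul_assoc, hb, ← mul_assoc, ha, mul_assoc]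
  | inv a _ ha => exact (Commute.inv_left (a := a) ha).eq

/-- The scalars. -/
noncomputable abbrev C3 : Subgroup S3 := Subgroup.zpowers om

instance normal_C3 : (C3).Normal := by
  refine ⟨fun n hn g => ?_⟩
  have hc : n ∈ Subgroup.center S3 := (Subgroup.zpowers_le.mpr om_center) hn
  rw [Subgroup.mem_center_iff.mp hc g, mul_inv_cancel_right]
  exact hn

theorem rels3 : ∀ w ∈ pres.rels, ev (LS.map (QuotientGroup.mk' C3)) w = 1 := by
  rw [rels_eq]
  intro w hw
  have hmap : ∀ v : List Nat,
      ev (LS.map (QuotientGroup.mk' C3)) v = QuotientGroup.mk' C3 (ev LS v) := by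
    intro v
    induction v with
    | nil => simp
    | cons l v ih =>
      rw [ev_cons, ev_cons, map_mul, ih]
      congr 1
      rw [fl, fl, ← List.getD_map (f := QuotientGroup.mk' C3), map_one]
  rw [hmap, QuotientGroup.mk'_apply, QuotientGroup.eq_one_iff]
  have h := allList_iff.mp triple_rels w hw
  cases hs : wordEq w spiderP
  · rw [hs, cond_false] at h
    rw [LS_eq_of_eqM h, ev_nil]
    exact one_mem _
  · rw [eq_of_wordEq hs]
    exact Subgroup.mem_zpowers om

/-- The map from `Fi22`. -/
noncomputable def ψ : Cfsg.Spor.Fi22 →* S3 ⧸ C3 := pres.hom pres_ok rels3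

theorem ψ_surjective : Function.Surjective ψ := by
  rw [← MonoidHom.range_eq_top, eq_top_iff]
  rintro x -
  induction x using QuotientGroup.induction_on with
  | _ g =>
    induction (closure_LS.symm ▸ Subgroup.mem_top g : g ∈ Subgroup.closure {x | x ∈ LS})
      using Subgroup.closure_induction with
    | mem y hy =>
      obtain ⟨l, hl, rfl⟩ := List.mem_map.mp hy
      obtain ⟨a, rfl⟩ := hix l (List.mem_range.mp hl)
      refine ⟨fl pres.gens (ix a), (pres.hom_fl pres_ok rels3 a).trans ?_⟩
      simp [fl, LS, List.getD_eq_getElem?_getD, List.mem_range.mp hl]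
    | one => exact one_mem _
    | mul a b _ _ ha hb => exact mul_mem ha hb
    | inv a _ ha => exact inv_mem ha

theorem fl_LS_zero : fl LS 0 ≠ 1 ∧ fl LS 0 * fl LS 0 = 1 := by
  refine ⟨fun h => ?_, ?_⟩
  · have h1 : (ev PL [0] ⟨(1, 0), by norm_num⟩ : Vec).1 = (1, 0) := by
      rw [← coe_ev_LS, ev_cons, ev_nil, mul_one, h]; rfl
    rw [ev_PL_apply _ (by simp)] at h1
    have h2 := gen_moves
    rw [show (vmul (1, 0) (matOf [0])).2 = 0 from congrArg Prod.snd h1] at h2
    exact absurd h2 (by simp)
  · have h := LS_eq_of_eqM (u := [0, 0]) (w := []) (by decide +kernel)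
    simpa [ev_cons] using h

theorem ψ_injective : Function.Injective ψ := by
  rcases isSimple.eq_bot_or_eq_top_of_normal ψ.ker inferInstance with h | h
  · exact (MonoidHom.ker_eq_bot_iff ψ).mp h
  · exfalso
    obtain ⟨y, hy⟩ := ψ_surjective (QuotientGroup.mk (fl LS 0))
    have hy1 : ψ y = 1 := MonoidHom.mem_ker.mp (h ▸ Subgroup.mem_top y)
    rw [hy1] at hy
    have hm : fl LS 0 ∈ C3 := (QuotientGroup.eq_one_iff _).mp hy.symm
    have hd : orderOf (fl LS 0) ∣ 3 := by
      have h3 := Subgroup.orderOf_dvd_natCard C3 hm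
      rwa [Nat.card_zpowers, orderOf_om] at h3
    have h2 : orderOf (fl LS 0) ∣ 2 := orderOf_dvd_of_pow_eq_one (by rw [pow_two, fl_LS_zero.2])
    have h1 : orderOf (fl LS 0) ∣ 1 := by simpa using Nat.dvd_gcd h2 hd
    exact fl_LS_zero.1 (orderOf_eq_one_iff.mp (Nat.dvd_one.mp h1))

/-- The covering map. -/
noncomputable def σ3 : S3 →* Cfsg.Spor.Fi22 :=
  (MulEquiv.ofBijective ψ ⟨ψ_injective, ψ_surjective⟩).symm.toMonoidHom.comp (QuotientGroup.mk' C3)

theorem σ3_surjective : Function.Surjective σ3 :=
  (MulEquiv.ofBijective ψ ⟨ψ_injective, ψ_surjective⟩).symm.surjective.comp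
    (QuotientGroup.mk'_surjective C3)

theorem ker_σ3 : σ3.ker = C3 := by
  ext x
  rw [MonoidHom.mem_ker, σ3, MonoidHom.comp_apply, ← QuotientGroup.eq_one_iff]
  exact (MulEquiv.ofBijective ψ ⟨ψ_injective, ψ_surjective⟩).symm.map_eq_one_iff

theorem om_commutator : om ∈ commutator S3 := by
  set f : S3 →* Abelianization S3 := Abelianization.of
  have e : ∀ l < 9, f (fl LS l) = f (fl LS 0) := by
    have b : ∀ a c : Nat, eqM [a, c, a] [c, a, c] = true → f (fl LS a) = f (fl LS c) := by
      intro a c h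
      have := congrArg f (LS_eq_of_eqM h)
      simp only [ev_cons, ev_nil, mul_one, map_mul] at this
      calc f (fl LS a) = f (fl LS a) * (f (fl LS c) * f (fl LS a)) *
            (f (fl LS c) * f (fl LS a))⁻¹ := by group
        _ = f (fl LS c) * (f (fl LS a) * f (fl LS c)) * (f (fl LS c) * f (fl LS a))⁻¹ := by rw [this]
        _ = f (fl LS c) := by rw [mul_comm (f (fl LS a)) (f (fl LS c))]; group
    intro l hl
    have b01 := b 0 1 (by decide +kernel)
    have b12 := b 1 2 (by decide +kernel)
    have b23 := b 2 3 (by decide +kernel)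
    have b34 := b 3 4 (by decide +kernel)
    have b45 := b 4 5 (by decide +kernel)
    have b56 := b 5 6 (by decide +kernel)
    have b37 := b 3 7 (by decide +kernel)
    have b78 := b 7 8 (by decide +kernel)
    interval_cases l
    · rfl
    · exact b01.symm
    · exact (b01.trans b12).symm
    · exact (b01.trans (b12.trans b23)).symm
    · exact (b01.trans (b12.trans (b23.trans b34))).symm
    · exact (b01.trans (b12.trans (b23.trans (b34.trans b45)))).symm
    · exact (b01.trans (b12.trans (b23.trans (b34.trans (b45.trans b56))))).symm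
    · exact (b01.trans (b12.trans (b23.trans b37))).symm
    · exact (b01.trans (b12.trans (b23.trans (b37.trans b78)))).symm
  have hw : ∀ w : List Nat, (∀ l ∈ w, l < 9) → f (ev LS w) = f (fl LS 0) ^ w.length := by
    intro w
    induction w with
    | nil => intro _; simp
    | cons l w ih =>
      intro h
      rw [ev_cons, map_mul, e l (h l (by simp)), ih (fun x hx => h x (by simp [hx])),
        List.length_cons, pow_succ']
  have h1 : f om = 1 := by
    rw [om, hw _ (letters_lt spider_moves.2.1 _ (by simp)),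
      Nat.eq_of_beq_eq_true spider_moves.2.2, show (90 : ℕ) = 2 * 45 from rfl, pow_mul, pow_two,
      ← map_mul, fl_LS_zero.2, map_one, one_pow]
  exact (QuotientGroup.eq_one_iff _).mp h1

end CfsgLib.Coset.Fi22.Schur
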