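import Cfsg.Agent.Coset.Fi22.Schur.Main
import Cfsg.Agent.Coset.Fi22.Schur.Triple
import Cfsg.Agent.Coset.Fi23.Schur.Hats

/-!
A sixfold cover of `Cfsg.Spor.Fi22`: the fibre product of the double cover inside `Cfsg.Spor.Fi23`
and the triple cover.
-/

set_option autoImplicit false
set_option maxRecDepth 100000
set_option Elab.async false

namespace CfsgLib.Coset.Fi22.Schur

open CfsgLib.Coset

/-- The double covering map. -/
noncomputable def σ2 : Fi23.H →* Cfsg.Spor.Fi22 :=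
  (MulEquiv.ofBijective Fi23.φ Fi23.φ_bijective).symm.toMonoidHom.comp (QuotientGroup.mk' Fi23.Z)

theorem σ2_surjective : Function.Surjective σ2 :=
  (MulEquiv.ofBijective Fi23.φ Fi23.φ_bijective).symm.surjective.comp
    (QuotientGroup.mk'_surjective Fi23.Z)

theorem ker_σ2 : σ2.ker = Fi23.Z := by
  ext x
  rw [MonoidHom.mem_ker, σ2, MonoidHom.comp_apply, ← QuotientGroup.eq_one_iff]
  exact (MulEquiv.ofBijective Fi23.φ Fi23.φ_bijective).symm.map_eq_one_iff

/-- The sixfold cover. -/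
noncomputable def G6 : Subgroup (Fi23.H × S3) :=
  (σ2.comp (MonoidHom.fst Fi23.H S3)).eqLocus (σ3.comp (MonoidHom.snd Fi23.H S3))

/-- The projection to the double cover. -/
noncomputable def pr1 : G6 →* Fi23.H := (MonoidHom.fst Fi23.H S3).comp G6.subtype

/-- The projection to the triple cover. -/
noncomputable def pr2 : G6 →* S3 := (MonoidHom.snd Fi23.H S3).comp G6.subtype

/-- The covering map. -/
noncomputable def σ6 : G6 →* Cfsg.Spor.Fi22 := σ2.comp pr1

theorem pr1_surjective : Function.Surjective pr1 := fun x => by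
  obtain ⟨y, hy⟩ := σ3_surjective (σ2 x)
  exact ⟨⟨(x, y), hy.symm⟩, rfl⟩

theorem pr2_surjective : Function.Surjective pr2 := fun y => by
  obtain ⟨x, hx⟩ := σ2_surjective (σ3 y)
  exact ⟨⟨(x, y), hx⟩, rfl⟩

theorem σ6_surjective : Function.Surjective σ6 := σ2_surjective.comp pr1_surjective

theorem σ6_eq (g : G6) : σ6 g = σ3 (pr2 g) := g.2

theorem mem_ker_σ6 {g : G6} : g ∈ σ6.ker ↔ pr1 g ∈ Fi23.Z ∧ pr2 g ∈ C3 := by
  rw [MonoidHom.mem_ker, ← ker_σ2, ← ker_σ3, MonoidHom.mem_ker, MonoidHom.mem_ker]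
  exact ⟨fun h => ⟨h, (σ6_eq g).symm.trans h⟩, fun h => h.1⟩

theorem z_pow_two : Fi23.z ^ 2 = 1 := by rw [pow_two, Fi23.z_sq]

/-- The kernel element of order two. -/
noncomputable def k2 : G6 := ⟨(Fi23.z, 1), by
  show σ2 Fi23.z = σ3 1
  rw [map_one, MonoidHom.mem_ker.mp (ker_σ2.symm ▸ Subgroup.mem_zpowers Fi23.z)]⟩

/-- The kernel element of order three. -/
noncomputable def k3 : G6 := ⟨(1, om), by
  show σ2 1 = σ3 om
  rw [map_one, MonoidHom.mem_ker.mp (ker_σ3.symm ▸ Subgroup.mem_zpowers om)]⟩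

theorem ext6 {a b : G6} (h1 : pr1 a = pr1 b) (h2 : pr2 a = pr2 b) : a = b :=
  Subtype.ext (Prod.ext h1 h2)

theorem k2_mem_commutator : k2 ∈ commutator G6 := by
  have hz : Fi23.z ∈ (commutator G6).map pr1 := by
    rw [_root_.commutator_def, Subgroup.map_commutator, Subgroup.map_top_of_surjective _ pr1_surjective,
      ← _root_.commutator_def, Fi23.Schur.H_perfect]
    exact Subgroup.mem_top _
  obtain ⟨d, hd, e⟩ := hz
  have h2 : pr2 d ∈ C3 := by
    have : d ∈ σ6.ker := by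
      rw [MonoidHom.mem_ker, σ6, MonoidHom.comp_apply, e,
        MonoidHom.mem_ker.mp (ker_σ2.symm ▸ Subgroup.mem_zpowers Fi23.z)]
    exact (mem_ker_σ6.mp this).2
  have : k2 = d ^ 3 := by
    refine ext6 ?_ ?_
    · rw [map_pow, e, pow_succ, z_pow_two, one_mul]; rfl
    · rw [map_pow]
      obtain ⟨j, hj⟩ := h2
      rw [← hj]
      show (1 : S3) = (om ^ j) ^ 3
      rw [← zpow_natCast, ← zpow_mul, mul_comm, zpow_mul, zpow_natCast, om_cube, one_zpow]
  rw [this]
  exact pow_mem hd 3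

theorem k3_mem_commutator : k3 ∈ commutator G6 := by
  have hz : om ∈ (commutator G6).map pr2 := by
    rw [_root_.commutator_def, Subgroup.map_commutator, Subgroup.map_top_of_surjective _ pr2_surjective,
      ← _root_.commutator_def]
    exact om_commutator
  obtain ⟨d, hd, e⟩ := hz
  have h1 : pr1 d ∈ Fi23.Z := by
    have : d ∈ σ6.ker := by
      rw [MonoidHom.mem_ker, σ6_eq, e,
        MonoidHom.mem_ker.mp (ker_σ3.symm ▸ Subgroup.mem_zpowers om)]
    exact (mem_ker_σ6.mp this).1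
  have : k3 = d ^ 4 := by
    refine ext6 ?_ ?_
    · rw [map_pow]
      obtain ⟨j, hj⟩ := h1
      rw [← hj]
      show (1 : Fi23.H) = (Fi23.z ^ j) ^ 4
      rw [← zpow_natCast, ← zpow_mul, mul_comm, zpow_mul, zpow_natCast, show (4 : ℕ) = 2 * 2 from rfl,
        pow_mul, z_pow_two, one_pow, one_zpow]
    · rw [map_pow, e, pow_succ, om_cube, one_mul]; rfl
  rw [this]
  exact pow_mem hd 4

theorem center_of_ker {g : G6} (h : g ∈ σ6.ker) : g ∈ Subgroup.center G6 := by
  obtain ⟨h1, h2⟩ := mem_ker_σ6.mp h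
  rw [Subgroup.mem_center_iff]
  intro y
  refine ext6 ?_ ?_
  · rw [map_mul, map_mul]
    exact Subgroup.mem_center_iff.mp (Subgroup.zpowers_le.mpr Fi23.z_center h1) _
  · rw [map_mul, map_mul]
    exact Subgroup.mem_center_iff.mp (Subgroup.zpowers_le.mpr om_center h2) _

theorem ker_le_commutator : σ6.ker ≤ commutator G6 := by
  intro g hg
  obtain ⟨⟨i, hi⟩, ⟨j, hj⟩⟩ := mem_ker_σ6.mp hg
  have : g = k2 ^ i * k3 ^ j := by
    refine ext6 ?_ ?_
    · rw [map_mul, map_zpow, map_zpow]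
      show pr1 g = Fi23.z ^ i * (1 : Fi23.H) ^ j
      rw [one_zpow, mul_one, ← hi]
    · rw [map_mul, map_zpow, map_zpow]
      show pr2 g = (1 : S3) ^ i * om ^ j
      rw [one_zpow, one_mul, ← hj]
  rw [this]
  exact mul_mem (zpow_mem k2_mem_commutator i) (zpow_mem k3_mem_commutator j)

/-- The kernel is the product of the two small kernels. -/
noncomputable def kerEquiv : σ6.ker ≃ Fi23.Z × C3 where
  toFun g := (⟨pr1 g.1, (mem_ker_σ6.mp g.2).1⟩, ⟨pr2 g.1, (mem_ker_σ6.mp g.2).2⟩)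
  invFun p := ⟨⟨(p.1.1, p.2.1), by
      show σ2 p.1.1 = σ3 p.2.1
      rw [MonoidHom.mem_ker.mp (ker_σ2.symm ▸ p.1.2), MonoidHom.mem_ker.mp (ker_σ3.symm ▸ p.2.2)]⟩,
    mem_ker_σ6.mpr ⟨p.1.2, p.2.2⟩⟩
  left_inv g := Subtype.ext (ext6 rfl rfl)
  right_inv p := rfl

theorem multiplier : Cfsg.HasCyclicSchurMultiplier Cfsg.Spor.Fi22 6 := by
  have := Fi23.card_le.1
  refine ⟨⟨G6, inferInstance, inferInstance, σ6,
    ⟨σ6_surjective, fun g => center_of_ker, ker_le_commutator⟩, ?_⟩, fun Γ _ _ σ hs => ker_image Γ σ hs⟩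
  have hcard : Nat.card σ6.ker = 6 := by
    rw [Nat.card_congr kerEquiv, Nat.card_prod, Fi23.card_Z, Nat.card_zpowers, orderOf_om]
  let g : σ6.ker := kerEquiv.symm (⟨Fi23.z, Subgroup.mem_zpowers _⟩, ⟨om, Subgroup.mem_zpowers _⟩)
  have hg : orderOf g = 6 := by
    have e : orderOf ((g.1 : G6) : Fi23.H × S3) = 6 := by
      show orderOf ((Fi23.z, om) : Fi23.H × S3) = 6
      rw [Prod.orderOf, orderOf_om, orderOf_eq_prime z_pow_two Fi23.z_ne_one]
      rfl
    rw [← e, Subgroup.orderOf_coe, Subgroup.orderOf_coe]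
  haveI : IsCyclic σ6.ker := isCyclic_of_orderOf_eq_card g (hg.trans hcard.symm)
  have e := zmodCyclicMulEquiv (G := σ6.ker) inferInstance
  rw [hcard] at e
  exact ⟨e.symm⟩

end CfsgLib.Coset.Fi22.Schur
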