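/-! Rewriting moves in the Coxeter group of `Cfsg.Spor.Fi22`. -/

set_option autoImplicit false

namespace CfsgLib.Coset.Fi22.Schur

/-- Rewriting moves. -/
def mvCube0 : List (Nat × Nat) :=
  [
  (35, 2), (28, 2), (20, 2), (21, 3), (23, 2), (24, 2), (25, 2), (26, 3), (28, 3), (30, 2), (31, 2), (32, 2),
  (33, 3), (35, 3), (37, 2), (38, 2), (39, 2), (19, 2), (20, 2), (21, 3), (23, 2), (24, 3), (26, 2), (27, 2),
  (28, 3), (30, 2), (31, 3), (33, 2), (34, 2), (35, 3), (37, 2), (33, 2), (26, 2), (18, 2), (19, 2), (20, 2),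
  (21, 3), (23, 2), (24, 3), (26, 3), (28, 2), (29, 2), (30, 2), (31, 3), (33, 3), (35, 2), (22, 2), (23, 2),
  (21, 2), (17, 2), (18, 2), (19, 3), (21, 3), (23, 3), (25, 2), (26, 2), (27, 2), (28, 2), (29, 2), (30, 2),
  (31, 2), (24, 2), (22, 2), (16, 2), (17, 3), (19, 2), (20, 2), (21, 2), (22, 3), (24, 3), (26, 2), (27, 2),
  (28, 2), (19, 2), (20, 2), (15, 2), (16, 2), (17, 3), (19, 2), (20, 3), (22, 2), (23, 2), (24, 3), (26, 2),
  (10, 3), (12, 2), (13, 2), (14, 2), (15, 2), (16, 2), (17, 2), (18, 2), (9, 2), (10, 3), (12, 2), (13, 2),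
  (14, 2), (8, 2), (9, 2), (10, 3), (12, 2), (1, 2), (2, 2), (3, 2), (4, 2), (5, 2), (6, 2), (7, 2),
  (8, 2), (9, 2), (10, 3), (12, 3), (14, 3), (16, 2), (17, 2), (18, 3), (20, 2), (21, 2), (22, 2), (23, 2),
  (24, 3), (26, 3), (28, 3), (30, 2), (31, 3), (33, 2), (34, 2), (35, 3), (37, 3), (39, 3), (41, 1), (77, 2),
  (70, 2), (62, 2), (63, 3), (65, 2), (66, 2), (67, 2), (68, 3), (70, 3), (72, 2), (73, 2), (74, 2), (75, 3),
  (77, 3), (79, 2), (80, 2), (81, 2), (61, 2), (62, 2), (63, 3), (65, 2), (66, 3), (68, 2), (69, 2), (70, 3),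
  (72, 2), (73, 3), (75, 2), (76, 2), (77, 3), (79, 2), (75, 2), (68, 2), (60, 2), (61, 2), (62, 2), (63, 3),
  (65, 2), (66, 3), (68, 3), (70, 2), (71, 2), (72, 2), (73, 3), (75, 3), (77, 2), (64, 2), (65, 2), (63, 2),
  (59, 2), (60, 2), (61, 3), (63, 3), (65, 3), (67, 2), (68, 2), (69, 2), (70, 2), (71, 2), (72, 2), (73, 2),
  (66, 2), (64, 2), (58, 2), (59, 3), (61, 2), (62, 2), (63, 2), (64, 3), (66, 3), (68, 2), (69, 2), (70, 2),
  (61, 2), (62, 2), (57, 2), (58, 2), (59, 3), (61, 2), (62, 3), (64, 2), (65, 2), (66, 3), (68, 2), (52, 3),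
  (54, 2), (55, 2), (56, 2), (57, 2), (58, 2), (59, 2), (60, 2), (51, 2), (52, 3), (54, 2), (55, 2), (56, 2),
  (50, 2), (51, 2), (52, 3), (54, 2), (43, 2), (44, 2), (45, 2), (46, 2), (47, 2), (48, 2), (49, 2), (50, 2),
  (51, 2), (52, 3), (54, 3), (56, 3), (58, 2), (59, 2), (60, 3), (62, 2), (63, 2), (64, 2)]

/-- Rewriting moves. -/
def mvCube1 : List (Nat × Nat) :=
  [
  (65, 2), (66, 3), (68, 3), (70, 3), (72, 2), (73, 3), (75, 2), (76, 2), (77, 3), (79, 3), (81, 3), (83, 1),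
  (119, 2), (112, 2), (104, 2), (105, 3), (107, 2), (108, 2), (109, 2), (110, 3), (112, 3), (114, 2), (115, 2), (116, 2),
  (117, 3), (119, 3), (121, 2), (122, 2), (123, 2), (103, 2), (104, 2), (105, 3), (107, 2), (108, 3), (110, 2), (111, 2),
  (112, 3), (114, 2), (115, 3), (117, 2), (118, 2), (119, 3), (121, 2), (117, 2), (110, 2), (102, 2), (103, 2), (104, 2),
  (105, 3), (107, 2), (108, 3), (110, 3), (112, 2), (113, 2), (114, 2), (115, 3), (117, 3), (119, 2), (106, 2), (107, 2),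
  (105, 2), (101, 2), (102, 2), (103, 3), (105, 3), (107, 3), (109, 2), (110, 2), (111, 2), (112, 2), (113, 2), (114, 2),
  (115, 2), (108, 2), (106, 2), (100, 2), (101, 3), (103, 2), (104, 2), (105, 2), (106, 3), (108, 3), (110, 2), (111, 2),
  (112, 2), (103, 2), (104, 2), (99, 2), (100, 2), (101, 3), (103, 2), (104, 3), (106, 2), (107, 2), (108, 3), (110, 2),
  (94, 3), (96, 2), (97, 2), (98, 2), (99, 2), (100, 2), (101, 2), (102, 2), (93, 2), (94, 3), (96, 2), (97, 2),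
  (98, 2), (92, 2), (93, 2), (94, 3), (96, 2), (85, 2), (86, 2), (87, 2), (88, 2), (89, 2), (90, 2), (91, 2),
  (92, 2), (93, 2), (94, 3), (96, 3), (98, 3), (100, 2), (101, 2), (102, 3), (104, 2), (105, 2), (106, 2), (107, 2),
  (108, 3), (110, 3), (112, 3), (114, 2), (115, 3), (117, 2), (118, 2), (119, 3), (121, 3), (123, 3), (125, 1), (125, 1),
  (123, 3), (125, 1), (121, 3), (123, 2), (124, 1), (119, 3), (121, 2), (122, 2), (123, 1), (118, 2), (119, 2), (117, 2),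
  (115, 3), (117, 3), (119, 3), (121, 2), (122, 1), (114, 2), (115, 2), (112, 3), (114, 2), (115, 3), (117, 2), (118, 2),
  (119, 3), (121, 1), (117, 2), (110, 3), (112, 2), (113, 2), (114, 2), (115, 3), (117, 3), (119, 2), (120, 1), (119, 1),
  (118, 1), (116, 2), (117, 1), (108, 3), (110, 2), (111, 2), (112, 2), (113, 2), (114, 2), (115, 2), (116, 1), (107, 2),
  (108, 3), (110, 2), (111, 2), (112, 2), (106, 2), (107, 2), (108, 3), (110, 2), (105, 2), (106, 2), (104, 2), (102, 3),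
  (104, 3), (106, 3), (108, 2), (109, 2), (110, 3), (112, 3), (114, 2), (115, 1), (101, 2), (102, 2), (103, 2), (104, 2),
  (105, 2), (106, 2), (107, 3), (100, 2), (101, 2), (98, 3), (100, 2), (101, 3), (103, 2), (104, 2), (105, 3), (107, 2),
  (108, 3), (110, 2), (111, 2), (112, 3), (114, 1), (110, 2), (103, 2), (96, 3), (98, 2), (99, 2), (100, 2), (101, 3),
  (103, 3), (105, 2), (106, 2), (107, 2), (108, 3), (110, 3), (112, 2), (113, 1), (112, 1), (111, 1)]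

/-- Rewriting moves. -/
def mvCube2 : List (Nat × Nat) :=
  [
  (109, 2), (110, 1), (105, 3), (107, 2), (108, 2), (109, 1), (104, 2), (105, 3), (107, 2), (108, 1), (102, 2), (103, 2),
  (104, 2), (105, 3), (107, 1), (106, 1), (94, 3), (96, 2), (97, 2), (98, 2), (99, 2), (100, 2), (101, 2), (102, 2),
  (103, 2), (104, 2), (105, 1), (93, 2), (94, 3), (96, 2), (97, 2), (98, 2), (92, 2), (93, 2), (94, 3), (96, 2),
  (90, 2), (91, 2), (92, 2), (89, 2), (90, 2), (82, 2), (83, 3), (85, 2), (86, 2), (87, 2), (88, 2), (81, 3),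
  (83, 2), (84, 2), (85, 2), (86, 2), (87, 2), (88, 3), (90, 3), (92, 3), (94, 2), (95, 2), (96, 3), (98, 3),
  (100, 2), (101, 2), (102, 2), (103, 3), (105, 1), (87, 2), (88, 2), (89, 2), (90, 2), (91, 2), (92, 2), (93, 3),
  (86, 2), (87, 2), (80, 2), (81, 2), (82, 3), (84, 2), (79, 2), (80, 3), (82, 2), (83, 2), (84, 3), (86, 2),
  (87, 3), (89, 2), (90, 2), (91, 3), (93, 2), (94, 3), (96, 2), (97, 2), (98, 3), (100, 2), (101, 3), (103, 2),
  (104, 1), (96, 2), (89, 2), (78, 2), (79, 2), (80, 2), (81, 3), (77, 2), (78, 2), (79, 3), (81, 2), (82, 3),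
  (84, 2), (85, 2), (86, 2), (87, 3), (89, 3), (91, 2), (92, 2), (93, 2), (94, 3), (96, 3), (98, 2), (99, 3),
  (101, 2), (102, 2), (103, 1), (98, 2), (99, 2), (97, 2), (80, 3), (82, 2), (83, 2), (84, 2), (85, 2), (86, 2),
  (79, 2), (80, 3), (82, 2), (83, 2), (84, 2), (78, 2), (79, 2), (80, 3), (82, 2), (76, 2), (77, 2), (78, 2),
  (75, 2), (76, 2), (74, 2), (73, 2), (74, 3), (76, 3), (78, 3), (80, 2), (81, 2), (82, 3), (84, 3), (86, 3),
  (88, 2), (89, 2), (90, 2), (91, 2), (92, 2), (93, 2), (94, 2), (95, 3), (97, 3), (99, 3), (101, 2), (102, 1),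
  (94, 2), (95, 2), (87, 2), (85, 2), (73, 2), (74, 2), (75, 2), (76, 2), (77, 2), (78, 2), (79, 3), (72, 2),
  (73, 2), (70, 3), (72, 2), (73, 3), (75, 2), (76, 2), (77, 3), (79, 2), (80, 3), (82, 2), (83, 2), (84, 2),
  (85, 3), (87, 3), (89, 2), (90, 2), (91, 2), (92, 3), (94, 2), (95, 3), (97, 2), (98, 2), (99, 3), (101, 1),
  (97, 2), (82, 2), (83, 2), (75, 2), (68, 3), (70, 2), (71, 2), (72, 2), (73, 3), (75, 3), (77, 2), (78, 2),
  (79, 2), (80, 3), (82, 2), (83, 3), (85, 2), (86, 2), (87, 3), (89, 2), (90, 3), (92, 2), (93, 2), (94, 2),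
  (95, 3), (97, 3), (99, 2), (100, 1), (99, 1), (98, 1), (96, 2), (97, 1), (88, 3), (90, 2), (91, 2), (92, 2),
  (93, 2), (94, 2), (95, 2), (96, 1), (87, 2), (88, 3), (90, 2), (91, 2), (92, 2), (86, 2)]

/-- Rewriting moves. -/
def mvCube3 : List (Nat × Nat) :=
  [
  (87, 2), (88, 3), (90, 2), (85, 2), (86, 2), (84, 2), (66, 3), (68, 2), (69, 2), (70, 2), (71, 2), (72, 2),
  (65, 2), (66, 3), (68, 2), (69, 2), (70, 2), (64, 2), (65, 2), (66, 3), (68, 2), (63, 2), (64, 2), (62, 2),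
  (60, 3), (62, 3), (64, 3), (66, 2), (67, 2), (68, 3), (70, 3), (72, 3), (74, 2), (75, 2), (76, 2), (77, 2),
  (78, 2), (79, 2), (80, 2), (81, 2), (82, 3), (84, 3), (86, 3), (88, 2), (89, 2), (90, 3), (92, 3), (94, 2),
  (95, 1), (81, 2), (82, 2), (83, 2), (84, 2), (85, 2), (86, 2), (87, 3), (80, 2), (81, 2), (73, 2), (71, 2),
  (59, 2), (60, 2), (61, 2), (62, 2), (63, 2), (64, 2), (65, 3), (58, 2), (59, 2), (56, 3), (58, 2), (59, 3),
  (61, 2), (62, 2), (63, 3), (65, 2), (66, 3), (68, 2), (69, 2), (70, 2), (71, 3), (73, 3), (75, 2), (76, 2),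
  (77, 2), (78, 3), (80, 2), (81, 3), (83, 2), (84, 2), (85, 3), (87, 2), (88, 3), (90, 2), (91, 2), (92, 3),
  (94, 1), (90, 2), (83, 2), (68, 2), (69, 2), (61, 2), (54, 3), (56, 2), (57, 2), (58, 2), (59, 3), (61, 3),
  (63, 2), (64, 2), (65, 2), (66, 3), (68, 2), (69, 3), (71, 2), (72, 2), (73, 3), (75, 2), (76, 3), (78, 2),
  (79, 2), (80, 2), (81, 3), (83, 3), (85, 2), (86, 2), (87, 2), (88, 3), (90, 3), (92, 2), (93, 1), (92, 1),
  (91, 1), (89, 2), (90, 1), (85, 3), (87, 2), (88, 2), (89, 1), (84, 2), (85, 3), (87, 2), (88, 1), (82, 2),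
  (83, 2), (84, 2), (85, 3), (87, 1), (86, 1), (74, 3), (76, 2), (77, 2), (78, 2), (79, 2), (80, 2), (81, 2),
  (82, 2), (83, 2), (84, 2), (85, 1), (73, 2), (74, 3), (76, 2), (77, 2), (78, 2), (72, 2), (73, 2), (74, 3),
  (76, 2), (71, 2), (72, 2), (70, 2), (52, 3), (54, 2), (55, 2), (56, 2), (57, 2), (58, 2), (51, 2), (52, 3),
  (54, 2), (55, 2), (56, 2), (50, 2), (51, 2), (52, 3), (54, 2), (48, 2), (49, 2), (50, 2), (47, 2), (48, 2),
  (40, 2), (41, 3), (43, 2), (44, 2), (45, 2), (46, 2), (39, 3), (41, 2), (42, 2), (43, 2), (44, 2), (45, 2),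
  (46, 3), (48, 3), (50, 3), (52, 2), (53, 2), (54, 3), (56, 3), (58, 3), (60, 2), (61, 2), (62, 2), (63, 2),
  (64, 2), (65, 2), (66, 2), (67, 2), (68, 3), (70, 3), (72, 3), (74, 2), (75, 2), (76, 3), (78, 3), (80, 2),
  (81, 2), (82, 2), (83, 3), (85, 1), (67, 2), (68, 2), (69, 2), (70, 2), (71, 2), (72, 2), (73, 3), (66, 2),
  (67, 2), (59, 2), (57, 2), (45, 2), (46, 2), (47, 2), (48, 2), (49, 2), (50, 2), (51, 3)]

/-- Rewriting moves. -/
def mvCube4 : List (Nat × Nat) :=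
  [
  (44, 2), (45, 2), (38, 2), (39, 2), (40, 3), (42, 2), (37, 2), (38, 3), (40, 2), (41, 2), (42, 3), (44, 2),
  (45, 3), (47, 2), (48, 2), (49, 3), (51, 2), (52, 3), (54, 2), (55, 2), (56, 2), (57, 3), (59, 3), (61, 2),
  (62, 2), (63, 2), (64, 3), (66, 2), (67, 3), (69, 2), (70, 2), (71, 3), (73, 2), (74, 3), (76, 2), (77, 2),
  (78, 3), (80, 2), (81, 3), (83, 2), (84, 1), (76, 2), (69, 2), (54, 2), (55, 2), (47, 2), (36, 2), (37, 2),
  (38, 2), (39, 3), (35, 2), (36, 2), (37, 3), (39, 2), (40, 3), (42, 2), (43, 2), (44, 2), (45, 3), (47, 3),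
  (49, 2), (50, 2), (51, 2), (52, 3), (54, 2), (55, 3), (57, 2), (58, 2), (59, 3), (61, 2), (62, 3), (64, 2),
  (65, 2), (66, 2), (67, 3), (69, 3), (71, 2), (72, 2), (73, 2), (74, 3), (76, 3), (78, 2), (79, 3), (81, 2),
  (82, 2), (83, 1), (78, 2), (79, 2), (77, 2), (60, 3), (62, 2), (63, 2), (64, 2), (65, 2), (66, 2), (59, 2),
  (60, 3), (62, 2), (63, 2), (64, 2), (58, 2), (59, 2), (60, 3), (62, 2), (57, 2), (58, 2), (56, 2), (38, 3),
  (40, 2), (41, 2), (42, 2), (43, 2), (44, 2), (37, 2), (38, 3), (40, 2), (41, 2), (42, 2), (36, 2), (37, 2),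
  (38, 3), (40, 2), (34, 2), (35, 2), (36, 2), (33, 2), (34, 2), (32, 2), (31, 2), (32, 3), (34, 3), (36, 3),
  (38, 2), (39, 2), (40, 3), (42, 3), (44, 3), (46, 2), (47, 2), (48, 2), (49, 2), (50, 2), (51, 2), (52, 2),
  (53, 2), (54, 3), (56, 3), (58, 3), (60, 2), (61, 2), (62, 3), (64, 3), (66, 3), (68, 2), (69, 2), (70, 2),
  (71, 2), (72, 2), (73, 2), (74, 2), (75, 3), (77, 3), (79, 3), (81, 2), (82, 1), (74, 2), (75, 2), (67, 2),
  (65, 2), (53, 2), (54, 2), (55, 2), (56, 2), (57, 2), (58, 2), (59, 3), (52, 2), (53, 2), (45, 2), (43, 2),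
  (31, 2), (32, 2), (33, 2), (34, 2), (35, 2), (36, 2), (37, 3), (30, 2), (31, 2), (28, 3), (30, 2), (31, 3),
  (33, 2), (34, 2), (35, 3), (37, 2), (38, 3), (40, 2), (41, 2), (42, 2), (43, 3), (45, 3), (47, 2), (48, 2),
  (49, 2), (50, 3), (52, 2), (53, 3), (55, 2), (56, 2), (57, 3), (59, 2), (60, 3), (62, 2), (63, 2), (64, 2),
  (65, 3), (67, 3), (69, 2), (70, 2), (71, 2), (72, 3), (74, 2), (75, 3), (77, 2), (78, 2), (79, 3), (81, 1),
  (77, 2), (62, 2), (63, 2), (55, 2), (40, 2), (41, 2), (33, 2), (26, 3), (28, 2), (29, 2), (30, 2), (31, 3),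
  (33, 3), (35, 2), (36, 2), (37, 2), (38, 3), (40, 2), (41, 3), (43, 2), (44, 2), (45, 3)]

/-- Rewriting moves. -/
def mvCube5 : List (Nat × Nat) :=
  [
  (47, 2), (48, 3), (50, 2), (51, 2), (52, 2), (53, 3), (55, 3), (57, 2), (58, 2), (59, 2), (60, 3), (62, 2),
  (63, 3), (65, 2), (66, 2), (67, 3), (69, 2), (70, 3), (72, 2), (73, 2), (74, 2), (75, 3), (77, 3), (79, 2),
  (80, 1), (79, 1), (78, 1), (76, 2), (77, 1), (68, 3), (70, 2), (71, 2), (72, 2), (73, 2), (74, 2), (75, 2),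
  (76, 1), (67, 2), (68, 3), (70, 2), (71, 2), (72, 2), (66, 2), (67, 2), (68, 3), (70, 2), (65, 2), (66, 2),
  (64, 2), (46, 3), (48, 2), (49, 2), (50, 2), (51, 2), (52, 2), (45, 2), (46, 3), (48, 2), (49, 2), (50, 2),
  (44, 2), (45, 2), (46, 3), (48, 2), (43, 2), (44, 2), (42, 2), (24, 3), (26, 2), (27, 2), (28, 2), (29, 2),
  (30, 2), (23, 2), (24, 3), (26, 2), (27, 2), (28, 2), (22, 2), (23, 2), (24, 3), (26, 2), (21, 2), (22, 2),
  (20, 2), (18, 3), (20, 3), (22, 3), (24, 2), (25, 2), (26, 3), (28, 3), (30, 3), (32, 2), (33, 2), (34, 2),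
  (35, 2), (36, 2), (37, 2), (38, 2), (39, 2), (40, 3), (42, 3), (44, 3), (46, 2), (47, 2), (48, 3), (50, 3),
  (52, 3), (54, 2), (55, 2), (56, 2), (57, 2), (58, 2), (59, 2), (60, 2), (61, 2), (62, 3), (64, 3), (66, 3),
  (68, 2), (69, 2), (70, 3), (72, 3), (74, 2), (75, 1), (61, 2), (62, 2), (63, 2), (64, 2), (65, 2), (66, 2),
  (67, 3), (60, 2), (61, 2), (53, 2), (51, 2), (39, 2), (40, 2), (41, 2), (42, 2), (43, 2), (44, 2), (45, 3),
  (38, 2), (39, 2), (31, 2), (29, 2), (17, 2), (18, 2), (19, 2), (20, 2), (21, 2), (22, 2), (23, 3), (16, 2),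
  (17, 2), (14, 3), (16, 2), (17, 3), (19, 2), (20, 2), (21, 3), (23, 2), (24, 3), (26, 2), (27, 2), (28, 2),
  (29, 3), (31, 3), (33, 2), (34, 2), (35, 2), (36, 3), (38, 2), (39, 3), (41, 2), (42, 2), (43, 3), (45, 2),
  (46, 3), (48, 2), (49, 2), (50, 2), (51, 3), (53, 3), (55, 2), (56, 2), (57, 2), (58, 3), (60, 2), (61, 3),
  (63, 2), (64, 2), (65, 3), (67, 2), (68, 3), (70, 2), (71, 2), (72, 3), (74, 1), (70, 2), (63, 2), (48, 2),
  (49, 2), (41, 2), (26, 2), (27, 2), (19, 2), (12, 3), (14, 2), (15, 2), (16, 2), (17, 3), (19, 3), (21, 2),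
  (22, 2), (23, 2), (24, 3), (26, 2), (27, 3), (29, 2), (30, 2), (31, 3), (33, 2), (34, 3), (36, 2), (37, 2),
  (38, 2), (39, 3), (41, 3), (43, 2), (44, 2), (45, 2), (46, 3), (48, 2), (49, 3), (51, 2), (52, 2), (53, 3),
  (55, 2), (56, 3), (58, 2), (59, 2), (60, 2), (61, 3), (63, 3), (65, 2), (66, 2), (67, 2)]

/-- Rewriting moves. -/
def mvCube6 : List (Nat × Nat) :=
  [
  (68, 3), (70, 3), (72, 2), (73, 1), (72, 1), (71, 1), (69, 2), (70, 1), (65, 3), (67, 2), (68, 2), (69, 1),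
  (64, 2), (65, 3), (67, 2), (68, 1), (62, 2), (63, 2), (64, 2), (65, 3), (67, 1), (66, 1), (54, 3), (56, 2),
  (57, 2), (58, 2), (59, 2), (60, 2), (61, 2), (62, 2), (63, 2), (64, 2), (65, 1), (64, 1), (63, 1), (62, 1),
  (61, 1), (60, 1), (59, 1), (53, 2), (54, 3), (56, 2), (57, 2), (58, 1), (52, 2), (53, 2), (54, 3), (56, 2),
  (57, 1), (48, 2), (49, 2), (50, 2), (51, 2), (52, 2), (53, 2), (54, 3), (56, 1), (55, 1), (54, 1), (53, 1),
  (52, 1), (50, 2), (51, 1), (49, 2), (50, 1), (47, 2), (48, 2), (49, 1), (43, 3), (45, 2), (46, 2), (47, 2),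
  (48, 1), (42, 2), (43, 3), (45, 2), (46, 2), (47, 1), (40, 2), (41, 2), (42, 2), (43, 3), (45, 2), (46, 1),
  (45, 1), (44, 1), (32, 3), (34, 2), (35, 2), (36, 2), (37, 2), (38, 2), (39, 2), (40, 2), (41, 2), (42, 2),
  (43, 1), (42, 1), (41, 1), (40, 1), (39, 1), (38, 1), (37, 1), (31, 2), (32, 3), (34, 2), (35, 2), (36, 1),
  (30, 2), (31, 2), (32, 3), (34, 2), (35, 1), (26, 2), (27, 2), (28, 2), (29, 2), (30, 2), (31, 2), (32, 3),
  (34, 1), (33, 1), (32, 1), (31, 1), (30, 1), (28, 2), (29, 1), (27, 2), (28, 1), (25, 2), (26, 2), (27, 1),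
  (21, 3), (23, 2), (24, 2), (25, 2), (26, 1), (20, 2), (21, 3), (23, 2), (24, 2), (25, 1), (18, 2), (19, 2),
  (20, 2), (21, 3), (23, 2), (24, 1), (23, 1), (22, 1), (10, 3), (12, 2), (13, 2), (14, 2), (15, 2), (16, 2),
  (17, 2), (18, 2), (19, 2), (20, 2), (21, 1), (20, 1), (19, 1), (18, 1), (17, 1), (16, 1), (15, 1), (9, 2),
  (10, 3), (12, 2), (13, 2), (14, 1), (8, 2), (9, 2), (10, 3), (12, 2), (13, 1), (7, 2), (8, 2), (9, 2),
  (10, 3), (12, 1), (11, 1), (10, 1), (9, 1), (8, 1), (6, 2), (7, 1), (5, 2), (6, 1), (4, 2), (5, 1),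
  (3, 2), (4, 1), (2, 2), (3, 1), (1, 2), (2, 1), (1, 1), (0, 1)]

/-- Rewriting moves. -/
def mvCube : List (Nat × Nat) :=
  mvCube0 ++ mvCube1 ++ mvCube2 ++ mvCube3 ++ mvCube4 ++ mvCube5 ++ mvCube6


end CfsgLib.Coset.Fi22.Schur
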