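import Cfsg.Agent.Coset.Fi22.Rels
import Cfsg.Agent.Coset.Table

/-!
Rewriting in the Coxeter group of the diagram of `Cfsg.Spor.Fi22`: a word reduced to the empty word
by cancellations, commutations and braid moves has value one in every group satisfying the Coxeter
relations.
-/

set_option autoImplicit false

namespace CfsgLib.Coset.Fi22.Schur

open CfsgLib.Coset

/-- The edges of the diagram. -/
def edgeList : List (Nat × Nat) :=
  [(0, 1), (1, 2), (2, 3), (3, 4), (3, 7), (4, 5), (5, 6), (7, 8)]

/-- Adjacency in the diagram. -/
def adjB (a b : Nat) : Bool := edgeList.contains (a, b) || edgeList.contains (b, a)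

/-- Cancel (kind 1), commute (kind 2) or braid (kind 3) at a position. -/
def moveAt : Nat → Nat → List Nat → Option (List Nat)
  | 0, 1, a :: b :: r => if a == b then some r else none
  | 0, 2, a :: b :: r =>
      if a != b && !adjB a b && Nat.blt a 9 && Nat.blt b 9 then some (b :: a :: r) else none
  | 0, 3, a :: b :: c :: r =>
      if a == c && adjB a b then some (b :: a :: b :: r) else none
  | p + 1, k, a :: r => (moveAt p k r).map (a :: ·)
  | _, _, _ => none

/-- Apply a list of moves. -/
def runMoves : List (Nat × Nat) → List Nat → Option (List Nat)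
  | [], w => some w
  | m :: ms, w => (moveAt m.1 m.2 w).bind (runMoves ms)

/-- The moves reduce the word to the empty word. -/
def reduces (ms : List (Nat × Nat)) (w : List Nat) : Bool :=
  match runMoves ms w with
  | some [] => true
  | _ => false

theorem adj_lt : ∀ a b : Nat, adjB a b = true → a < 9 ∧ b < 9 := by
  intro a b h
  simp only [adjB, Bool.or_eq_true, List.contains_iff_mem, edgeList, List.mem_cons,
    List.not_mem_nil, or_false, Prod.mk.injEq] at h
  omega

/-- The Coxeter relations of the diagram. -/
structure Cox {Γ : Type*} [Group Γ] (L : List Γ) : Prop where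
  sq : ∀ a, fl L a * fl L a = 1
  comm : ∀ a b, a < 9 → b < 9 → a ≠ b → adjB a b = false → fl L a * fl L b = fl L b * fl L a
  braid : ∀ a b, adjB a b = true → fl L a * fl L b * fl L a = fl L b * fl L a * fl L b

variable {Γ : Type*} [Group Γ] {L : List Γ}

theorem moveAt_ev (hL : Cox L) : ∀ (p k : Nat) (w w' : List Nat),
    moveAt p k w = some w' → ev L w' = ev L w := by
  intro p
  induction p with
  | zero =>
    intro k w w' h
    unfold moveAt at h
    split at h
    · rename_i a b r _
      split at h
      · rename_i hab
        simp only [Option.some.injEq] at h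
        subst h
        rw [beq_iff_eq] at hab
        subst hab
        rw [ev_cons, ev_cons, ← mul_assoc, hL.sq, one_mul]
      · simp at h
    · rename_i a b r _
      split at h
      · rename_i hab
        simp only [Option.some.injEq] at h
        subst h
        simp only [Bool.and_eq_true, bne_iff_ne, Bool.not_eq_true', Nat.blt_eq] at hab
        rw [ev_cons, ev_cons, ev_cons, ev_cons, ← mul_assoc, ← mul_assoc,
          hL.comm a b hab.1.2 hab.2 hab.1.1.1 hab.1.1.2]
      · simp at h
    · rename_i a b c r _
      split at h
      · rename_i hab
        simp only [Option.some.injEq] at h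
        subst h
        simp only [Bool.and_eq_true, beq_iff_eq] at hab
        obtain ⟨rfl, hadj⟩ := hab
        simp only [ev_cons, ← mul_assoc]
        rw [hL.braid a b hadj]
      · simp at h
    · omega
    · simp at h
  | succ p ih =>
    intro k w w' h
    cases w with
    | nil => simp [moveAt] at h
    | cons a r =>
      simp only [moveAt, Option.map_eq_some_iff] at h
      obtain ⟨r', hr, rfl⟩ := h
      rw [ev_cons, ev_cons, ih k r r' hr]

theorem runMoves_ev (hL : Cox L) : ∀ (ms : List (Nat × Nat)) (w w' : List Nat),
    runMoves ms w = some w' → ev L w' = ev L w := by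
  intro ms
  induction ms with
  | nil => intro w w' h; simp only [runMoves, Option.some.injEq] at h; rw [h]
  | cons m ms ih =>
    intro w w' h
    simp only [runMoves, Option.bind_eq_some_iff] at h
    obtain ⟨v, hv, hw⟩ := h
    rw [ih v w' hw, moveAt_ev hL _ _ _ _ hv]

theorem ev_of_reduces (hL : Cox L) {ms : List (Nat × Nat)} {w : List Nat}
    (h : reduces ms w = true) : ev L w = 1 := by
  unfold reduces at h
  split at h
  · rename_i hr
    rw [← runMoves_ev hL ms w [] hr, ev_nil]
  · simp at h

theorem ev_rev_of_sq (hL : Cox L) (w : List Nat) : ev L w.reverse = (ev L w)⁻¹ := by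
  induction w with
  | nil => simp
  | cons k w ih =>
    rw [List.reverse_cons, ev_append, ih, ev_cons, ev_cons, ev_nil, mul_one, mul_inv_rev,
      inv_eq_of_mul_eq_one_right (hL.sq k)]

end CfsgLib.Coset.Fi22.Schur
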