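import Cfsg.Agent.Coset.Fi22.ThreeTransp
import Cfsg.Agent.Coset.Fi22.Schur.Data
import Cfsg.Agent.Coset.Fi22.Schur.Moves
import Cfsg.Prelude.Def_KGroupFacts
import Mathlib.GroupTheory.Abelianization.Defs

/-!
Lifts of the transpositions to a stem extension of `Cfsg.Spor.Fi22`: the conjugates of one lift
commute and braid as the transpositions do.
-/

set_option autoImplicit false
set_option maxRecDepth 100000
set_option Elab.async false

namespace CfsgLib.Coset.Fi22.Schur

open CfsgLib.Coset Fi22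
open scoped commutatorElement

/-- Two words agree on the base. -/
noncomputable def sameW (v w : List Nat) : Bool :=
  cond (checkLetters 9 [v]) (cond (checkLetters 9 [w])
    (allList (fun b => Nat.beq (follow (tget Top.Tb) b v) (follow (tget Top.Tb) b w))
      [0, 1, 192, 54, 8]) false) false

theorem sameW_eq {v w : List Nat} (h : sameW v w = true) : ev Lg v = ev Lg w := by
  obtain ⟨h1, h2⟩ := cond_false_eq_true.mp h
  obtain ⟨h2, h3⟩ := cond_false_eq_true.mp h2
  exact U62.eq_of_base h1 h2 h3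

/-- The subgroup `H` is perfect. -/
theorem H_perfect : commutator H = ⊤ := by
  have := card_le.1
  haveI := CfsgLib.Unitary.isSimpleGroup_PSU (F := G24.F4) U62.hF (n := 6) (by norm_num) (by omega)
  set D := commutator H
  have hD : D.map U62.θ = ⊤ := by
    rw [show D = commutator H from rfl, _root_.commutator_def, Subgroup.map_commutator,
      Subgroup.map_top_of_surjective _ U62.surjective_θ, ← _root_.commutator_def]
    rcases (inferInstance : (commutator (Cfsg.PSU 6 G24.F4 2)).Normal).eq_bot_or_eq_top with h | h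
    · exfalso
      letI : CommGroup (Cfsg.PSU 6 G24.F4 2) :=
        { (inferInstance : Group (Cfsg.PSU 6 G24.F4 2)) with
          mul_comm := fun x y => by
            have := Subgroup.commutator_mem_commutator (Subgroup.mem_top x) (Subgroup.mem_top y)
            rw [← _root_.commutator_def, h, Subgroup.mem_bot, commutatorElement_eq_one_iff_mul_comm]
              at this
            exact this }
      have hp := IsSimpleGroup.prime_card (α := Cfsg.PSU 6 G24.F4 2)
      rw [U62.card_PSU] at hp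
      revert hp
      norm_num
    · exact h
  by_contra hne
  have hcard : Nat.card H = Nat.card U62.θ.ker * Nat.card (Cfsg.PSU 6 G24.F4 2) := by
    rw [U62.card_ker, U62.card_PSU, U62.card_H]
  have h1 : Nat.card (Cfsg.PSU 6 G24.F4 2) ≤ Nat.card D := by
    have h := Subgroup.card_map_dvd (H := D) U62.θ
    rw [hD, Subgroup.card_top] at h
    exact Nat.le_of_dvd Nat.card_pos h
  have hi : D.index = 2 := by
    have h2 := Subgroup.card_mul_index D
    rw [U62.card_ker] at hcard
    rw [hcard] at h2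
    rw [U62.card_PSU] at h1 h2
    have h3 : D.index ≤ 2 := by
      by_contra hc
      nlinarith [Nat.mul_le_mul_right D.index h1]
    have h4 : D.index ≠ 1 := fun h => hne (Subgroup.index_eq_one.mp h)
    have h5 : D.index ≠ 0 := Subgroup.index_ne_zero_of_finite
    omega
  have hz := U62.z_mem_of_index_two hi
  refine hne (eq_top_iff.mpr fun x _ => ?_)
  obtain ⟨d, hd, e⟩ : U62.θ x ∈ D.map U62.θ := hD ▸ Subgroup.mem_top _
  have hk : d⁻¹ * x ∈ Subgroup.zpowers U62.z := by
    rw [← U62.ker_eq, MonoidHom.mem_ker, map_mul, map_inv, e, inv_mul_cancel]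
  rw [show x = d * (d⁻¹ * x) by group]
  exact mul_mem hd ((Subgroup.zpowers_le.mpr hz) hk)

section

variable {Γ : Type} [Group Γ] {σ : Γ →* Cfsg.Spor.Fi22}

theorem exists_central_factor {x a : Γ} (h : σ a * σ x = σ x * σ a) :
    ∃ z ∈ σ.ker, a * x = z * x * a := by
  refine ⟨a * x * a⁻¹ * x⁻¹, ?_, by group⟩
  rw [MonoidHom.mem_ker, map_mul, map_mul, map_mul, map_inv, map_inv, h]
  group

theorem commutator_fix {x a b z w : Γ} (hz : ∀ y : Γ, y * z = z * y) (hw : ∀ y : Γ, y * w = w * y)
    (ea : a * x = z * x * a) (eb : b * x = w * x * b) : ⁅a, b⁆ * x = x * ⁅a, b⁆ := by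
  have e1 : (a * b) * x = (z * w) * x * (a * b) := by
    calc (a * b) * x = a * (b * x) := mul_assoc _ _ _
      _ = (a * w) * x * b := by rw [eb]; group
      _ = w * (a * x) * b := by rw [hw a]; group
      _ = (w * z) * x * (a * b) := by rw [ea]; group
      _ = (z * w) * x * (a * b) := by rw [← hw z]
  have e2 : (b * a) * x = (z * w) * x * (b * a) := by
    calc (b * a) * x = b * (a * x) := mul_assoc _ _ _
      _ = (b * z) * x * a := by rw [ea]; group
      _ = z * (b * x) * a := by rw [hz b]; group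
      _ = (z * w) * x * (b * a) := by rw [eb]; group
  have hk : ∀ y : Γ, (z * w)⁻¹ * y = y * (z * w)⁻¹ := fun y =>
    ((show Commute (z * w) y from by
      show z * w * y = y * (z * w)
      rw [mul_assoc, ← hw y, ← mul_assoc, ← hz y, mul_assoc]).inv_left).eq
  have e3 : x * (b * a)⁻¹ = (b * a)⁻¹ * (z * w) * x := by
    calc x * (b * a)⁻¹ = (b * a)⁻¹ * ((b * a) * x) * (b * a)⁻¹ := by group
      _ = (b * a)⁻¹ * (z * w) * x := by rw [e2]; group
  rw [commutatorElement_def]
  calc a * b * a⁻¹ * b⁻¹ * x = (a * b) * ((z * w)⁻¹ * ((b * a)⁻¹ * (z * w) * x)) := by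
        rw [← mul_assoc (z * w)⁻¹, ← mul_assoc (z * w)⁻¹, hk ((b * a)⁻¹)]; group
    _ = (a * b) * ((z * w)⁻¹ * x * (b * a)⁻¹) := by rw [← e3]; group
    _ = (z * w)⁻¹ * ((a * b) * x) * (b * a)⁻¹ := by
        rw [← mul_assoc, ← mul_assoc, ← hk (a * b)]; group
    _ = x * (a * b * a⁻¹ * b⁻¹) := by rw [e1]; group

/-- A lift of the transposition commutes with every lift of its centraliser. -/
theorem lift_fixes (hs : Cfsg.IsStemExtension σ) {T : Γ} (hT : σ T = t) {g : Γ}
    (hg : σ g * t = t * σ g) : g * T = T * g := by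
  set S := Subgroup.centralizer ({T} : Set Γ)
  have hcen : ∀ {x : Γ}, σ x ∈ H → σ x * σ T = σ T * σ x := fun {x} hx => by
    rw [hT]
    exact Subgroup.mem_centralizer_singleton_iff.mp (centralizer_t.symm ▸ hx)
  have hle : commutator H ≤ (S.map σ).subgroupOf H := by
    rw [commutator_def, Subgroup.commutator_le]
    intro u _ v _
    obtain ⟨a, ha⟩ := hs.1 (u : Cfsg.Spor.Fi22)
    obtain ⟨b, hb⟩ := hs.1 (v : Cfsg.Spor.Fi22)
    obtain ⟨z, hz, ea⟩ := exists_central_factor (hcen (x := a) (ha.symm ▸ u.2))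
    obtain ⟨w, hw, eb⟩ := exists_central_factor (hcen (x := b) (hb.symm ▸ v.2))
    refine Subgroup.mem_subgroupOf.mpr ⟨⁅a, b⁆, Subgroup.mem_centralizer_singleton_iff.mpr
      (commutator_fix (Subgroup.mem_center_iff.mp (hs.2.1 hz))
        (Subgroup.mem_center_iff.mp (hs.2.1 hw)) ea eb), ?_⟩
    rw [map_commutatorElement, ha, hb]
    rfl
  rw [H_perfect] at hle
  have hgH : σ g ∈ H := centralizer_t ▸ Subgroup.mem_centralizer_singleton_iff.mpr hg
  obtain ⟨c, hc, he⟩ := Subgroup.mem_subgroupOf.mp (hle (Subgroup.mem_top (⟨σ g, hgH⟩ : H)))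
  have hk : c⁻¹ * g ∈ Subgroup.center Γ := hs.2.1 (by
    rw [MonoidHom.mem_ker, map_mul, map_inv, he, inv_mul_cancel])
  have h1 := Subgroup.mem_center_iff.mp hk T
  calc g * T = c * ((c⁻¹ * g) * T) := by group
    _ = c * (T * (c⁻¹ * g)) := by rw [h1]
    _ = (c * T) * (c⁻¹ * g) := by group
    _ = T * g := by rw [Subgroup.mem_centralizer_singleton_iff.mp hc]; group

/-- The conjugates of a lift. -/
def Hat (T X : Γ) : Prop := ∃ s : Γ, X = s * T * s⁻¹

variable {T : Γ}

theorem Hat.conj {X : Γ} (hX : Hat T X) (u : Γ) : Hat T (u * X * u⁻¹) := by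
  obtain ⟨s, rfl⟩ := hX
  exact ⟨u * s, by group⟩

theorem Hat.unique (hs : Cfsg.IsStemExtension σ) (hT : σ T = t) {X Y : Γ} (hX : Hat T X)
    (hY : Hat T Y) (h : σ X = σ Y) : X = Y := by
  obtain ⟨a, rfl⟩ := hX
  obtain ⟨b, rfl⟩ := hY
  have hc : σ (b⁻¹ * a) * t = t * σ (b⁻¹ * a) := by
    rw [← hT]
    simp only [map_mul, map_inv] at h ⊢
    calc (σ b)⁻¹ * σ a * σ T = (σ b)⁻¹ * (σ a * σ T * (σ a)⁻¹) * σ a := by group
      _ = σ T * ((σ b)⁻¹ * σ a) := by rw [h]; group
  have := lift_fixes hs hT hc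
  calc a * T * a⁻¹ = b * ((b⁻¹ * a) * T) * a⁻¹ := by group
    _ = b * T * b⁻¹ := by rw [this]; group

theorem Hat.comm (hs : Cfsg.IsStemExtension σ) (hT : σ T = t) {X Y : Γ} (hX : Hat T X)
    (h : σ Y * σ X = σ X * σ Y) : Y * X = X * Y := by
  have he : σ (Y * X * Y⁻¹) = σ X := by rw [map_mul, map_mul, map_inv, h]; group
  have := (hX.conj Y).unique hs hT hX he
  calc Y * X = Y * X * Y⁻¹ * Y := by group
    _ = X * Y := by rw [this]

theorem Hat.sq_eq {X : Γ} (hX : Hat T X) (hc : ∀ y : Γ, y * (T * T) = T * T * y) :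
    X * X = T * T := by
  obtain ⟨s, rfl⟩ := hX
  calc s * T * s⁻¹ * (s * T * s⁻¹) = s * (T * T) * s⁻¹ := by group
    _ = T * T := by rw [hc]; group

theorem Hat.sq (hT2 : T * T = 1) {X : Γ} (hX : Hat T X) : X * X = 1 :=
  (hX.sq_eq (fun y => by rw [hT2]; simp)).trans hT2

theorem Hat.inv_eq (hT2 : T * T = 1) {X : Γ} (hX : Hat T X) : X⁻¹ = X :=
  inv_eq_of_mul_eq_one_right (hX.sq hT2)

theorem Hat.braid (hs : Cfsg.IsStemExtension σ) (hT : σ T = t) (hT2 : T * T = 1) {X Y : Γ}
    (hX : Hat T X) (hY : Hat T Y) (h : σ (X * Y * X) = σ (Y * X * Y)) :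
    X * Y * X = Y * X * Y := by
  have h1 : Hat T (X * Y * X) := by
    have := hY.conj X; rwa [hX.inv_eq hT2] at this
  have h2 : Hat T (Y * X * Y) := by
    have := hX.conj Y; rwa [hY.inv_eq hT2] at this
  exact h1.unique hs hT h2 h

/-- Lifts of the generators among the conjugates of one lift. -/
structure Frame (σ : Γ →* Cfsg.Spor.Fi22) (T : Γ) (X : List Γ) : Prop where
  len : X.length = 9
  hat : ∀ l < 9, Hat T (fl X l)
  img : ∀ l < 9, σ (fl X l) = fl Lg l

theorem cW_ok : allBelow 4 9 (fun l =>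
    sameW (cW.getD l [] ++ [0] ++ (cW.getD l []).reverse) [l]) = true := by
  decide +kernel

theorem ev_Lg_rev (w : List Nat) : ev Lg w.reverse = (ev Lg w)⁻¹ := ev_rev w

/-- Frames exist over any lift of the transposition. -/
theorem exists_frame (hs : Cfsg.IsStemExtension σ) (hT : σ T = t) : ∃ X, Frame σ T X := by
  choose u hu using fun l : Nat => hs.1 (ev Lg (cW.getD l []))
  refine ⟨(List.range 9).map fun l => u l * T * (u l)⁻¹, by simp, fun l hl => ?_, fun l hl => ?_⟩
  all_goals rw [fl, List.getD_eq_getElem _ _ (by simpa using hl)]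
  all_goals simp only [List.getElem_map, List.getElem_range]
  · exact ⟨u l, rfl⟩
  · rw [map_mul, map_mul, map_inv, hu, hT, ← ev_Lg_rev, t, ← ev_append, ← ev_append,
      sameW_eq (of_allBelow cW_ok l hl), ev_cons, ev_nil, mul_one]

variable {X : List Γ}

theorem Frame.fl_of_ge (hX : Frame σ T X) {l : Nat} (hl : 9 ≤ l) : fl X l = 1 :=
  fl_of_le _ (hX.len ▸ hl)

theorem Frame.map_ev (hX : Frame σ T X) : ∀ w : List Nat, σ (ev X w) = ev Lg w
  | [] => by simp
  | l :: w => by
    rw [ev_cons, ev_cons, map_mul, hX.map_ev w]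
    congr 1
    rcases lt_or_ge l 9 with hl | hl
    · exact hX.img l hl
    · rw [hX.fl_of_ge hl, map_one, fl_of_le _ (len_Lg ▸ hl)]

/-- A transposition given by a conjugator and a letter. -/
def tpW (p : List Nat × Nat) : List Nat := p.1 ++ [p.2] ++ p.1.reverse

theorem Frame.sq (hX : Frame σ T X) (hT2 : T * T = 1) (a : Nat) : fl X a * fl X a = 1 := by
  rcases lt_or_ge a 9 with h | h
  · exact (hX.hat a h).sq hT2
  · rw [hX.fl_of_ge h, mul_one]

theorem cox_checks : allBelow 4 9 (fun a => allBelow 4 9 fun b =>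
    cond (adjB a b) (sameW [a, b, a] [b, a, b]) (sameW [a, b] [b, a])) = true := by
  decide +kernel

/-- The Coxeter relations hold in a frame. -/
theorem Frame.cox (hs : Cfsg.IsStemExtension σ) (hT : σ T = t) (hT2 : T * T = 1)
    (hX : Frame σ T X) : Cox X := by
  refine ⟨hX.sq hT2, fun a b ha hb _ hadj => ?_, fun a b hadj => ?_⟩
  · have h := of_allBelow (of_allBelow cox_checks a ha) b hb
    rw [hadj, cond_false] at h
    have e := sameW_eq h
    simp only [ev_cons, ev_nil, mul_one] at e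
    exact (hX.hat b hb).comm hs hT (by rw [hX.img a ha, hX.img b hb]; exact e)
  · obtain ⟨ha, hb⟩ := adj_lt a b hadj
    have h := of_allBelow (of_allBelow cox_checks a ha) b hb
    rw [hadj, cond_true] at h
    have e := sameW_eq h
    simp only [ev_cons, ev_nil, mul_one] at e
    refine (hX.hat a ha).braid hs hT hT2 (hX.hat b hb) ?_
    simp only [map_mul, hX.img a ha, hX.img b hb, mul_assoc]
    exact e

theorem Frame.hat_tp (hX : Frame σ T X) (hC : Cox X) {p : List Nat × Nat} (hp : p.2 < 9) :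
    Hat T (ev X (tpW p)) := by
  have : ev X (tpW p) = ev X p.1 * fl X p.2 * (ev X p.1)⁻¹ := by
    simp [tpW, ev_append, ev_rev_of_sq hC, mul_assoc]
  rw [this]
  exact (hX.hat p.2 hp).conj _

end

end CfsgLib.Coset.Fi22.Schur
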