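/-! Rewriting moves in the Coxeter group of `Cfsg.Spor.Fi22`. -/

set_option autoImplicit false

namespace CfsgLib.Coset.Fi22.Schur

/-- Rewriting moves. -/
def mvSpider0 : List (Nat × Nat) :=
  [
  (89, 1), (88, 1), (87, 1), (77, 2), (78, 2), (79, 2), (80, 2), (81, 2), (82, 2), (83, 2), (84, 3), (86, 1),
  (85, 2), (86, 2), (87, 2), (88, 1), (84, 2), (74, 2), (75, 2), (76, 2), (77, 2), (78, 2), (79, 2), (80, 3),
  (82, 3), (84, 3), (86, 2), (87, 1), (81, 2), (79, 3), (81, 3), (83, 2), (84, 2), (85, 2), (86, 2), (82, 2),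
  (80, 2), (74, 3), (76, 2), (77, 2), (78, 2), (79, 2), (80, 3), (82, 3), (84, 2), (71, 2), (72, 2), (73, 2),
  (74, 2), (75, 3), (77, 2), (78, 2), (69, 3), (71, 2), (72, 2), (73, 3), (75, 2), (71, 2), (59, 2), (60, 2),
  (61, 2), (62, 2), (63, 2), (64, 2), (65, 2), (66, 3), (68, 2), (69, 3), (71, 3), (73, 2), (74, 2), (75, 3),
  (77, 2), (78, 3), (80, 2), (81, 2), (82, 3), (84, 3), (86, 3), (88, 1), (87, 1), (85, 2), (86, 1), (83, 2),
  (84, 2), (85, 2), (86, 2), (87, 1), (81, 3), (83, 2), (79, 3), (81, 2), (82, 2), (83, 3), (85, 2), (86, 1),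
  (77, 2), (78, 2), (79, 2), (80, 3), (76, 2), (77, 2), (78, 3), (80, 2), (81, 3), (83, 2), (84, 2), (85, 1),
  (74, 2), (72, 3), (74, 3), (76, 2), (77, 2), (78, 2), (79, 2), (80, 2), (81, 2), (82, 2), (83, 2), (84, 2),
  (85, 2), (75, 2), (73, 2), (70, 2), (71, 2), (72, 2), (73, 3), (75, 3), (77, 2), (78, 2), (79, 2), (70, 2),
  (71, 2), (68, 3), (70, 2), (71, 3), (73, 2), (74, 2), (75, 3), (77, 2), (64, 2), (65, 2), (66, 2), (67, 2),
  (68, 2), (69, 2), (62, 3), (64, 2), (65, 2), (57, 3), (59, 2), (60, 2), (61, 2), (62, 3), (64, 2), (65, 3),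
  (67, 2), (68, 2), (69, 3), (71, 2), (72, 2), (73, 2), (74, 2), (75, 3), (77, 3), (79, 3), (81, 2), (82, 2),
  (83, 2), (72, 2), (60, 2), (61, 2), (62, 2), (63, 2), (64, 2), (65, 2), (66, 3), (68, 2), (69, 2), (70, 3),
  (72, 3), (74, 2), (75, 2), (59, 2), (47, 2), (48, 2), (49, 2), (50, 2), (51, 2), (52, 2), (53, 2), (54, 3),
  (56, 2), (57, 3), (59, 3), (61, 2), (62, 2), (63, 2), (64, 3), (66, 2), (67, 2), (68, 3), (70, 2), (71, 2),
  (72, 3), (74, 2), (75, 3), (77, 2), (78, 2), (79, 3), (81, 2), (62, 2), (63, 2), (64, 2), (65, 2), (66, 2),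
  (67, 2), (68, 2), (69, 2), (61, 2), (58, 2), (59, 3), (61, 3), (63, 2), (64, 2), (65, 2), (66, 2), (57, 3),
  (59, 2), (60, 2), (61, 3), (63, 2), (64, 2), (59, 2), (56, 2), (57, 3), (59, 3), (61, 2), (62, 2), (55, 2),
  (56, 2), (57, 2), (54, 2), (44, 2), (45, 2), (46, 2), (47, 2), (48, 2), (49, 2), (50, 3)]

/-- Rewriting moves. -/
def mvSpider1 : List (Nat × Nat) :=
  [
  (52, 3), (54, 3), (56, 2), (57, 3), (59, 2), (60, 2), (61, 2), (62, 3), (64, 3), (66, 3), (68, 2), (69, 3),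
  (71, 2), (72, 2), (73, 2), (51, 2), (49, 3), (51, 3), (53, 2), (54, 2), (55, 2), (56, 2), (57, 2), (58, 2),
  (59, 3), (61, 2), (62, 2), (52, 2), (50, 2), (44, 3), (46, 2), (47, 2), (48, 2), (49, 2), (50, 3), (52, 3),
  (54, 2), (55, 2), (56, 2), (57, 3), (59, 2), (41, 2), (42, 2), (43, 2), (44, 2), (45, 3), (47, 2), (48, 2),
  (39, 3), (41, 2), (42, 2), (43, 3), (45, 2), (41, 2), (29, 2), (30, 2), (31, 2), (32, 2), (33, 2), (34, 2),
  (35, 2), (36, 3), (38, 2), (39, 3), (41, 3), (43, 2), (44, 2), (45, 3), (47, 2), (48, 3), (50, 2), (51, 2),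
  (52, 3), (54, 2), (55, 3), (57, 2), (58, 2), (59, 3), (61, 2), (62, 3), (64, 2), (65, 2), (66, 3), (68, 2),
  (69, 3), (71, 2), (72, 2), (73, 3), (75, 2), (76, 2), (77, 2), (78, 2), (79, 3), (81, 3), (83, 3), (85, 3),
  (87, 1), (86, 1), (84, 2), (85, 1), (82, 2), (83, 2), (84, 1), (80, 2), (81, 2), (82, 2), (83, 2), (84, 2),
  (85, 2), (86, 1), (78, 3), (80, 2), (81, 2), (82, 2), (77, 2), (78, 3), (80, 2), (76, 2), (74, 3), (76, 3),
  (78, 2), (79, 2), (80, 3), (82, 3), (84, 2), (85, 1), (72, 2), (73, 2), (74, 2), (71, 2), (70, 2), (71, 3),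
  (73, 2), (74, 3), (76, 2), (77, 2), (78, 2), (79, 2), (68, 3), (70, 2), (71, 3), (73, 2), (74, 3), (76, 2),
  (77, 2), (67, 2), (68, 2), (69, 2), (65, 3), (67, 2), (63, 3), (65, 2), (66, 2), (67, 3), (69, 3), (71, 2),
  (72, 2), (73, 2), (74, 3), (76, 2), (77, 3), (79, 3), (81, 2), (82, 2), (83, 2), (84, 2), (85, 3), (87, 1),
  (80, 2), (78, 2), (71, 2), (72, 2), (70, 2), (68, 2), (61, 2), (60, 2), (61, 3), (63, 2), (64, 2), (65, 2),
  (66, 2), (67, 2), (68, 3), (70, 3), (72, 3), (74, 2), (75, 2), (76, 2), (77, 2), (78, 3), (80, 3), (82, 2),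
  (83, 3), (85, 2), (86, 1), (81, 3), (83, 2), (84, 2), (85, 2), (86, 2), (87, 1), (80, 2), (81, 3), (83, 2),
  (79, 2), (58, 2), (56, 3), (58, 3), (60, 2), (61, 2), (62, 2), (63, 2), (64, 2), (65, 2), (59, 2), (60, 2),
  (57, 2), (58, 2), (55, 2), (56, 2), (54, 2), (55, 2), (56, 3), (58, 3), (60, 3), (62, 2), (63, 2), (53, 2),
  (54, 2), (55, 2), (56, 2), (51, 3), (53, 2), (49, 3), (51, 2), (52, 2), (53, 3), (55, 2), (56, 3), (58, 2),
  (59, 2), (60, 3), (62, 2), (63, 3), (65, 3), (67, 2), (68, 2), (69, 2), (70, 2), (71, 2)]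

/-- Rewriting moves. -/
def mvSpider2 : List (Nat × Nat) :=
  [
  (72, 2), (73, 3), (75, 2), (76, 2), (77, 3), (79, 3), (81, 2), (82, 2), (83, 3), (85, 2), (86, 1), (76, 2),
  (77, 2), (78, 2), (79, 2), (80, 3), (66, 2), (67, 2), (64, 2), (58, 2), (47, 2), (48, 2), (49, 2), (50, 3),
  (46, 2), (47, 2), (48, 3), (50, 2), (51, 3), (53, 2), (54, 2), (55, 2), (56, 3), (58, 3), (60, 2), (61, 2),
  (62, 2), (63, 2), (64, 3), (66, 2), (67, 3), (69, 2), (70, 2), (71, 3), (73, 2), (74, 3), (76, 2), (77, 2),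
  (78, 3), (80, 2), (81, 3), (83, 2), (84, 2), (85, 1), (73, 2), (74, 2), (72, 2), (69, 2), (70, 3), (72, 3),
  (74, 3), (76, 2), (77, 2), (78, 2), (79, 2), (80, 2), (81, 2), (82, 2), (83, 2), (84, 2), (85, 2), (86, 3),
  (88, 1), (75, 2), (73, 2), (68, 3), (70, 2), (71, 2), (72, 2), (73, 3), (75, 3), (77, 2), (78, 2), (79, 2),
  (70, 2), (71, 2), (67, 2), (68, 3), (70, 2), (71, 3), (73, 2), (74, 2), (75, 3), (77, 2), (66, 2), (67, 2),
  (68, 2), (69, 2), (65, 2), (44, 2), (42, 3), (44, 3), (46, 2), (47, 2), (48, 2), (49, 2), (50, 2), (51, 2),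
  (52, 2), (53, 2), (45, 2), (43, 2), (40, 2), (41, 2), (42, 2), (43, 3), (45, 3), (47, 2), (48, 2), (49, 2),
  (40, 2), (41, 2), (38, 3), (40, 2), (41, 3), (43, 2), (44, 2), (45, 3), (47, 2), (34, 2), (35, 2), (36, 2),
  (37, 2), (38, 2), (39, 2), (32, 3), (34, 2), (35, 2), (27, 3), (29, 2), (30, 2), (31, 2), (32, 3), (34, 2),
  (35, 3), (37, 2), (38, 2), (39, 3), (41, 2), (42, 2), (43, 2), (44, 2), (45, 3), (47, 3), (49, 3), (51, 2),
  (52, 2), (53, 3), (55, 2), (56, 2), (57, 2), (58, 2), (59, 3), (61, 2), (62, 2), (63, 3), (65, 3), (67, 2),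
  (68, 2), (69, 3), (71, 2), (72, 2), (73, 2), (74, 2), (75, 3), (77, 3), (79, 3), (81, 2), (82, 2), (83, 2),
  (84, 3), (86, 2), (87, 1), (72, 2), (62, 2), (63, 2), (64, 2), (65, 2), (66, 3), (68, 2), (69, 2), (70, 3),
  (72, 3), (74, 2), (75, 2), (42, 2), (30, 2), (31, 2), (32, 2), (33, 2), (34, 2), (35, 2), (36, 3), (38, 2),
  (39, 2), (40, 3), (42, 3), (44, 2), (45, 2), (29, 2), (17, 2), (18, 2), (19, 2), (20, 2), (21, 2), (22, 2),
  (23, 2), (24, 3), (26, 2), (27, 3), (29, 3), (31, 2), (32, 2), (33, 2), (34, 3), (36, 2), (37, 2), (38, 3),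
  (40, 2), (41, 2), (42, 3), (44, 2), (45, 3), (47, 2), (48, 2), (49, 3), (51, 2), (52, 2), (53, 3), (55, 2),
  (56, 2), (57, 3), (59, 2), (60, 3), (62, 2), (63, 2), (64, 3), (66, 2), (67, 2), (68, 3)]

/-- Rewriting moves. -/
def mvSpider3 : List (Nat × Nat) :=
  [
  (70, 2), (71, 2), (72, 3), (74, 2), (75, 3), (77, 2), (78, 2), (79, 3), (81, 2), (82, 3), (84, 2), (85, 2),
  (86, 1), (80, 3), (82, 2), (83, 2), (84, 2), (85, 2), (86, 2), (87, 2), (88, 1), (79, 2), (80, 3), (82, 2),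
  (83, 2), (84, 2), (78, 2), (79, 2), (80, 3), (82, 2), (77, 2), (78, 2), (76, 2), (59, 2), (60, 2), (58, 2),
  (55, 2), (56, 3), (58, 3), (60, 3), (62, 2), (63, 2), (64, 2), (65, 2), (66, 2), (67, 2), (68, 2), (69, 2),
  (61, 2), (59, 2), (54, 3), (56, 2), (57, 2), (58, 2), (59, 3), (61, 3), (63, 2), (64, 2), (65, 2), (66, 2),
  (56, 2), (57, 2), (53, 2), (54, 3), (56, 2), (57, 3), (59, 2), (60, 2), (61, 3), (63, 2), (64, 2), (59, 2),
  (52, 2), (53, 2), (54, 3), (56, 2), (57, 3), (59, 3), (61, 2), (62, 2), (50, 3), (52, 2), (53, 2), (54, 2),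
  (55, 2), (56, 2), (57, 2), (49, 2), (50, 3), (52, 2), (53, 2), (54, 2), (48, 2), (49, 2), (50, 3), (52, 2),
  (47, 2), (48, 2), (46, 2), (32, 2), (33, 2), (34, 2), (35, 2), (36, 2), (37, 2), (38, 2), (39, 2), (31, 2),
  (28, 2), (29, 3), (31, 3), (33, 2), (34, 2), (35, 2), (36, 2), (27, 3), (29, 2), (30, 2), (31, 3), (33, 2),
  (34, 2), (29, 2), (26, 2), (27, 3), (29, 3), (31, 2), (32, 2), (25, 2), (26, 2), (27, 2), (24, 2), (14, 2),
  (15, 2), (16, 2), (17, 2), (18, 2), (19, 2), (20, 3), (22, 3), (24, 3), (26, 2), (27, 3), (29, 2), (30, 2),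
  (31, 2), (32, 3), (34, 3), (36, 3), (38, 2), (39, 3), (41, 2), (42, 2), (43, 2), (44, 3), (46, 3), (48, 3),
  (50, 2), (51, 2), (52, 3), (54, 3), (56, 2), (57, 3), (59, 2), (60, 2), (61, 2), (62, 3), (64, 3), (66, 3),
  (68, 2), (69, 3), (71, 2), (72, 2), (73, 2), (74, 3), (76, 3), (78, 3), (80, 2), (81, 2), (82, 3), (84, 3),
  (86, 2), (87, 1), (73, 2), (74, 2), (75, 2), (76, 2), (72, 2), (73, 2), (70, 3), (72, 2), (73, 3), (75, 2),
  (76, 3), (78, 2), (79, 2), (80, 2), (81, 2), (69, 2), (70, 3), (72, 2), (73, 3), (75, 2), (76, 3), (78, 2),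
  (79, 2), (67, 3), (69, 2), (70, 2), (71, 2), (66, 2), (67, 3), (69, 2), (65, 2), (43, 2), (44, 2), (45, 2),
  (46, 2), (42, 2), (43, 2), (40, 3), (42, 2), (43, 3), (45, 2), (46, 3), (48, 2), (49, 2), (50, 2), (51, 2),
  (39, 2), (40, 3), (42, 2), (43, 3), (45, 2), (46, 3), (48, 2), (49, 2), (37, 3), (39, 2), (40, 2), (41, 2),
  (36, 2), (37, 3), (39, 2), (35, 2), (21, 2), (19, 3), (21, 3), (23, 2), (24, 2), (25, 2)]

/-- Rewriting moves. -/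
def mvSpider4 : List (Nat × Nat) :=
  [
  (26, 2), (27, 2), (28, 2), (29, 3), (31, 2), (32, 2), (33, 3), (35, 3), (37, 2), (38, 2), (39, 3), (41, 3),
  (43, 2), (44, 2), (45, 2), (46, 3), (48, 2), (49, 3), (51, 3), (53, 2), (54, 2), (55, 2), (56, 2), (57, 2),
  (58, 2), (59, 3), (61, 2), (62, 2), (63, 3), (65, 3), (67, 2), (68, 2), (69, 3), (71, 3), (73, 2), (74, 2),
  (75, 2), (76, 3), (78, 2), (79, 3), (81, 3), (83, 2), (84, 2), (85, 2), (86, 2), (87, 3), (89, 1), (82, 2),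
  (80, 2), (73, 2), (74, 2), (72, 2), (70, 2), (62, 2), (63, 2), (52, 2), (50, 2), (43, 2), (44, 2), (42, 2),
  (40, 2), (32, 2), (33, 2), (22, 2), (20, 2), (14, 3), (16, 2), (17, 2), (18, 2), (19, 2), (20, 3), (22, 3),
  (24, 2), (25, 2), (26, 2), (27, 3), (29, 2), (30, 3), (32, 2), (33, 3), (35, 2), (36, 2), (37, 2), (38, 2),
  (39, 2), (40, 3), (42, 3), (44, 3), (46, 2), (47, 2), (48, 2), (49, 2), (50, 3), (52, 3), (54, 2), (55, 2),
  (56, 2), (57, 3), (59, 2), (60, 3), (62, 2), (63, 3), (65, 2), (66, 2), (67, 2), (68, 2), (69, 2), (70, 3),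
  (72, 3), (74, 3), (76, 2), (77, 2), (78, 2), (79, 2), (80, 3), (82, 3), (84, 2), (85, 3), (87, 2), (88, 1),
  (83, 3), (85, 2), (86, 2), (87, 2), (88, 2), (89, 1), (82, 2), (83, 3), (85, 2), (81, 2), (59, 2), (60, 2),
  (58, 2), (56, 3), (58, 3), (60, 3), (62, 2), (63, 2), (64, 2), (65, 2), (66, 2), (67, 2), (61, 2), (62, 2),
  (59, 2), (60, 2), (57, 2), (58, 2), (55, 2), (56, 2), (57, 2), (58, 3), (60, 3), (62, 3), (64, 2), (65, 2),
  (53, 3), (55, 2), (56, 2), (57, 2), (58, 2), (52, 2), (53, 3), (55, 2), (51, 2), (29, 2), (30, 2), (28, 2),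
  (26, 3), (28, 3), (30, 3), (32, 2), (33, 2), (34, 2), (35, 2), (36, 2), (37, 2), (31, 2), (32, 2), (29, 2),
  (30, 2), (27, 2), (28, 2), (25, 2), (26, 2), (27, 2), (28, 3), (30, 3), (32, 3), (34, 2), (35, 2), (23, 3),
  (25, 2), (26, 2), (27, 2), (28, 2), (22, 2), (23, 3), (25, 2), (21, 2), (11, 2), (12, 2), (13, 2), (14, 2),
  (15, 3), (17, 2), (18, 2), (19, 3), (21, 3), (23, 2), (24, 2), (25, 3), (27, 2), (28, 3), (30, 2), (31, 2),
  (32, 3), (34, 2), (35, 3), (37, 3), (39, 2), (40, 2), (41, 2), (42, 2), (43, 2), (44, 2), (45, 3), (47, 2),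
  (48, 2), (49, 3), (51, 3), (53, 2), (54, 2), (55, 3), (57, 2), (58, 3), (60, 2), (61, 2), (62, 3), (64, 2),
  (65, 3), (67, 3), (69, 2), (70, 2), (71, 2), (72, 2), (73, 2), (74, 2), (75, 3), (77, 2)]

/-- Rewriting moves. -/
def mvSpider5 : List (Nat × Nat) :=
  [
  (78, 2), (79, 3), (81, 3), (83, 2), (84, 2), (85, 3), (87, 2), (88, 1), (78, 2), (79, 2), (80, 2), (81, 2),
  (82, 3), (68, 2), (69, 2), (66, 2), (60, 2), (48, 2), (49, 2), (50, 2), (51, 2), (52, 3), (38, 2), (39, 2),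
  (36, 2), (30, 2), (18, 2), (19, 2), (20, 2), (21, 2), (22, 3), (9, 3), (11, 2), (12, 2), (13, 3), (15, 2),
  (16, 3), (18, 2), (19, 2), (20, 3), (22, 2), (23, 3), (25, 2), (26, 2), (27, 2), (28, 3), (30, 3), (32, 2),
  (33, 2), (34, 2), (35, 2), (36, 3), (38, 2), (39, 3), (41, 2), (42, 2), (43, 3), (45, 2), (46, 3), (48, 2),
  (49, 2), (50, 3), (52, 2), (53, 3), (55, 2), (56, 2), (57, 2), (58, 3), (60, 3), (62, 2), (63, 2), (64, 2),
  (65, 2), (66, 3), (68, 2), (69, 3), (71, 2), (72, 2), (73, 3), (75, 2), (76, 3), (78, 2), (79, 2), (80, 3),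
  (82, 2), (83, 3), (85, 2), (86, 2), (87, 1), (89, 1), (75, 2), (76, 2), (74, 2), (71, 2), (72, 3), (74, 3),
  (76, 3), (78, 2), (79, 2), (80, 2), (81, 2), (82, 2), (83, 2), (84, 2), (85, 2), (86, 2), (87, 2), (88, 1),
  (87, 1), (86, 1), (85, 2), (86, 2), (87, 2), (88, 1), (84, 2), (82, 3), (84, 3), (86, 2), (87, 1), (77, 2),
  (75, 2), (70, 3), (72, 2), (73, 2), (74, 2), (75, 3), (77, 3), (79, 2), (80, 2), (72, 2), (73, 2), (69, 2),
  (70, 3), (72, 2), (73, 3), (75, 2), (76, 2), (77, 3), (79, 2), (80, 3), (82, 2), (83, 2), (84, 3), (86, 1),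
  (82, 2), (75, 2), (65, 2), (66, 2), (67, 2), (68, 2), (69, 2), (70, 3), (72, 2), (73, 3), (75, 3), (77, 2),
  (78, 2), (79, 2), (80, 3), (82, 3), (84, 2), (85, 1), (78, 2), (79, 2), (80, 2), (77, 2), (74, 2), (75, 3),
  (77, 3), (79, 2), (80, 3), (82, 2), (83, 2), (84, 1), (73, 3), (75, 2), (76, 2), (77, 3), (79, 2), (80, 3),
  (82, 2), (83, 1), (75, 2), (72, 2), (73, 3), (75, 3), (77, 2), (78, 2), (79, 2), (80, 3), (82, 1), (77, 2),
  (78, 2), (76, 2), (74, 2), (67, 2), (68, 2), (69, 2), (70, 2), (71, 2), (72, 2), (73, 2), (74, 3), (76, 3),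
  (78, 3), (80, 2), (81, 1), (80, 2), (81, 1), (79, 2), (80, 1), (77, 2), (78, 2), (79, 1), (63, 2), (64, 2),
  (65, 2), (62, 2), (59, 2), (60, 3), (62, 3), (64, 2), (65, 3), (67, 2), (68, 2), (69, 2), (58, 3), (60, 2),
  (61, 2), (62, 3), (64, 2), (65, 3), (67, 2), (68, 2), (69, 3), (71, 2), (72, 2), (73, 2), (74, 2), (75, 2),
  (76, 3), (78, 1), (60, 2), (57, 2), (58, 3), (60, 3), (62, 2), (63, 2), (64, 2), (65, 3)]

/-- Rewriting moves. -/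
def mvSpider6 : List (Nat × Nat) :=
  [
  (67, 2), (68, 2), (69, 3), (71, 2), (72, 2), (73, 2), (74, 3), (76, 2), (77, 1), (67, 2), (68, 2), (69, 2),
  (66, 2), (67, 2), (65, 2), (63, 3), (65, 3), (67, 3), (69, 3), (71, 2), (72, 2), (73, 2), (74, 2), (75, 2),
  (76, 1), (70, 2), (71, 2), (68, 2), (62, 2), (63, 2), (59, 2), (60, 3), (62, 2), (63, 3), (65, 2), (66, 2),
  (67, 2), (68, 3), (70, 2), (71, 3), (73, 2), (74, 2), (75, 1), (65, 2), (66, 2), (58, 3), (60, 2), (61, 2),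
  (62, 2), (63, 3), (65, 2), (66, 3), (68, 2), (69, 2), (70, 2), (71, 3), (73, 2), (74, 1), (61, 2), (62, 2),
  (63, 2), (64, 2), (60, 2), (57, 2), (58, 3), (60, 3), (62, 2), (63, 2), (64, 3), (66, 2), (67, 2), (68, 2),
  (69, 2), (70, 2), (71, 3), (73, 1), (72, 2), (73, 2), (74, 2), (75, 1), (71, 2), (56, 2), (57, 2), (55, 2),
  (53, 3), (55, 3), (57, 3), (59, 2), (60, 2), (61, 2), (62, 2), (63, 2), (64, 2), (65, 2), (66, 3), (68, 2),
  (69, 3), (71, 3), (73, 2), (74, 1), (67, 2), (68, 2), (66, 2), (52, 2), (50, 3), (52, 3), (54, 2), (55, 2),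
  (56, 2), (57, 2), (58, 2), (59, 2), (60, 3), (62, 2), (63, 2), (64, 3), (66, 3), (68, 3), (70, 2), (71, 2),
  (72, 2), (73, 2), (69, 2), (67, 2), (53, 2), (51, 2), (49, 2), (50, 2), (51, 3), (53, 3), (55, 2), (56, 2),
  (57, 2), (58, 3), (60, 2), (61, 2), (62, 3), (64, 2), (65, 2), (66, 2), (67, 3), (69, 3), (71, 2), (64, 2),
  (65, 2), (56, 2), (54, 2), (48, 2), (49, 2), (46, 3), (48, 2), (49, 3), (51, 2), (52, 2), (53, 2), (54, 3),
  (56, 3), (58, 2), (59, 2), (60, 2), (61, 2), (62, 3), (64, 2), (65, 3), (67, 2), (68, 2), (69, 3), (71, 3),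
  (73, 3), (75, 1), (74, 1), (72, 2), (73, 1), (70, 2), (71, 2), (72, 2), (73, 2), (74, 1), (68, 3), (70, 2),
  (66, 3), (68, 2), (69, 2), (70, 3), (72, 2), (73, 1), (64, 2), (65, 2), (66, 2), (67, 3), (63, 2), (64, 2),
  (65, 3), (67, 2), (68, 3), (70, 2), (71, 2), (72, 1), (59, 2), (60, 2), (61, 2), (58, 2), (59, 2), (57, 2),
  (55, 2), (45, 2), (46, 2), (47, 2), (43, 3), (45, 2), (46, 2), (47, 3), (49, 2), (50, 2), (51, 2), (52, 2),
  (53, 2), (54, 2), (55, 3), (57, 3), (59, 3), (61, 3), (63, 2), (64, 2), (65, 2), (66, 2), (67, 2), (68, 2),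
  (69, 2), (70, 2), (71, 2), (72, 2), (62, 2), (60, 2), (58, 2), (59, 2), (60, 3), (62, 3), (64, 2), (65, 2),
  (66, 2), (54, 2), (55, 2), (41, 2), (42, 2), (43, 3), (45, 2), (46, 2), (47, 3), (49, 2)]

/-- Rewriting moves. -/
def mvSpider7 : List (Nat × Nat) :=
  [
  (50, 2), (51, 2), (52, 3), (54, 2), (55, 3), (57, 2), (58, 2), (50, 2), (41, 2), (39, 3), (41, 3), (43, 2),
  (44, 2), (45, 2), (46, 2), (47, 3), (49, 2), (50, 3), (52, 2), (53, 2), (54, 2), (55, 3), (57, 2), (58, 3),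
  (60, 2), (61, 2), (62, 3), (64, 2), (49, 2), (50, 2), (51, 2), (52, 2), (48, 2), (38, 2), (39, 2), (40, 2),
  (41, 2), (42, 3), (44, 2), (45, 2), (46, 3), (48, 3), (50, 2), (51, 2), (52, 3), (54, 2), (55, 2), (56, 2),
  (36, 3), (38, 2), (39, 2), (40, 3), (42, 2), (43, 2), (44, 3), (46, 2), (47, 2), (48, 3), (50, 2), (51, 2),
  (52, 3), (54, 2), (55, 2), (56, 3), (58, 2), (59, 2), (60, 2), (61, 2), (62, 3), (64, 3), (66, 3), (68, 2),
  (69, 2), (70, 2), (59, 2), (42, 2), (43, 2), (44, 2), (41, 2), (42, 2), (40, 2), (38, 2), (35, 2), (36, 2),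
  (37, 2), (38, 3), (40, 3), (42, 3), (44, 3), (46, 2), (47, 2), (48, 2), (49, 2), (50, 2), (51, 2), (52, 2),
  (53, 3), (55, 2), (56, 2), (57, 3), (59, 3), (61, 2), (62, 2), (45, 2), (43, 2), (37, 2), (38, 2), (34, 2),
  (35, 3), (37, 2), (38, 3), (40, 2), (41, 2), (42, 2), (43, 3), (45, 3), (47, 2), (48, 2), (49, 2), (50, 2),
  (51, 3), (53, 2), (54, 2), (55, 3), (57, 2), (58, 2), (59, 3), (61, 2), (62, 3), (64, 2), (65, 2), (66, 3),
  (68, 2), (48, 2), (49, 2), (50, 2), (51, 2), (52, 2), (53, 2), (54, 2), (55, 2), (56, 2), (47, 2), (48, 2),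
  (46, 2), (44, 2), (33, 2), (34, 2), (35, 2), (36, 2), (32, 2), (30, 3), (32, 3), (34, 2), (35, 2), (36, 3),
  (38, 2), (39, 2), (40, 2), (41, 2), (42, 2), (43, 2), (44, 3), (46, 3), (48, 3), (50, 2), (51, 2), (52, 2),
  (53, 2), (43, 2), (44, 2), (28, 3), (30, 2), (31, 2), (32, 3), (34, 2), (35, 2), (36, 3), (38, 2), (39, 2),
  (40, 2), (41, 3), (43, 2), (44, 3), (46, 2), (47, 2), (48, 3), (50, 2), (51, 2), (46, 2), (38, 2), (39, 2),
  (30, 2), (27, 2), (28, 3), (30, 3), (32, 2), (33, 2), (34, 2), (35, 2), (36, 3), (38, 2), (39, 3), (41, 2),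
  (42, 2), (43, 2), (44, 3), (46, 3), (48, 2), (49, 2), (42, 2), (43, 2), (44, 2), (41, 2), (26, 2), (27, 2),
  (28, 2), (25, 2), (23, 3), (25, 3), (27, 2), (28, 3), (30, 2), (31, 2), (32, 2), (33, 2), (34, 2), (35, 2),
  (36, 3), (38, 2), (39, 3), (41, 3), (43, 2), (44, 3), (46, 2), (47, 2), (48, 2), (49, 3), (51, 3), (53, 3),
  (55, 2), (56, 3), (58, 2), (59, 2), (60, 2), (37, 2), (38, 2), (36, 2), (22, 2), (20, 3)]

/-- Rewriting moves. -/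
def mvSpider8 : List (Nat × Nat) :=
  [
  (22, 3), (24, 2), (25, 2), (26, 2), (27, 2), (28, 2), (29, 2), (30, 3), (32, 2), (33, 2), (34, 3), (36, 3),
  (38, 3), (40, 2), (41, 2), (42, 2), (43, 2), (44, 2), (45, 2), (46, 3), (48, 2), (49, 2), (39, 2), (37, 2),
  (23, 2), (21, 2), (19, 2), (20, 2), (21, 3), (23, 3), (25, 2), (26, 2), (27, 2), (28, 3), (30, 2), (31, 2),
  (32, 3), (34, 2), (35, 2), (36, 2), (37, 3), (39, 3), (41, 2), (42, 2), (43, 2), (44, 3), (46, 2), (34, 2),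
  (35, 2), (18, 2), (19, 2), (16, 3), (18, 2), (19, 3), (21, 2), (22, 2), (23, 3), (25, 2), (26, 3), (28, 2),
  (29, 2), (30, 2), (31, 2), (32, 3), (34, 2), (35, 3), (37, 2), (38, 2), (39, 3), (41, 2), (42, 3), (44, 2),
  (45, 2), (46, 3), (48, 2), (49, 3), (51, 2), (52, 2), (53, 3), (55, 2), (56, 3), (58, 2), (59, 2), (60, 3),
  (62, 2), (63, 2), (64, 2), (65, 2), (66, 3), (68, 3), (70, 3), (72, 3), (74, 1), (67, 2), (65, 3), (67, 3),
  (69, 2), (70, 2), (71, 2), (72, 2), (73, 1), (68, 2), (66, 2), (64, 2), (65, 2), (66, 3), (68, 3), (70, 2),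
  (71, 2), (72, 1), (69, 2), (67, 2), (45, 2), (46, 2), (47, 2), (43, 3), (45, 2), (46, 2), (47, 3), (49, 2),
  (50, 2), (51, 2), (52, 2), (42, 2), (43, 3), (45, 2), (46, 2), (47, 3), (49, 2), (50, 2), (41, 2), (42, 2),
  (43, 3), (45, 2), (46, 2), (47, 3), (40, 2), (38, 3), (40, 3), (42, 2), (43, 2), (44, 2), (45, 2), (36, 3),
  (38, 2), (39, 2), (40, 3), (42, 2), (43, 2), (38, 2), (35, 2), (36, 3), (38, 3), (40, 2), (41, 2), (34, 2),
  (35, 2), (36, 2), (33, 2), (31, 3), (33, 3), (35, 2), (36, 3), (38, 2), (39, 2), (40, 2), (41, 3), (43, 3),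
  (45, 3), (47, 2), (48, 3), (50, 3), (52, 3), (54, 2), (55, 2), (56, 2), (57, 2), (58, 2), (59, 2), (60, 2),
  (61, 2), (62, 2), (63, 2), (64, 2), (65, 2), (66, 2), (67, 3), (69, 3), (71, 1), (70, 1), (68, 2), (69, 1),
  (62, 2), (63, 2), (60, 3), (62, 2), (63, 3), (65, 2), (66, 2), (67, 3), (69, 1), (59, 2), (60, 3), (62, 2),
  (63, 3), (65, 3), (67, 2), (68, 1), (67, 2), (64, 2), (65, 3), (67, 3), (69, 1), (58, 2), (59, 2), (60, 2),
  (56, 3), (58, 2), (59, 2), (60, 3), (62, 2), (63, 2), (64, 2), (65, 2), (55, 2), (56, 3), (58, 2), (59, 2),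
  (60, 3), (62, 2), (53, 2), (54, 2), (51, 2), (52, 2), (46, 3), (48, 2), (49, 2), (50, 2), (51, 2), (52, 3),
  (54, 3), (56, 2), (57, 2), (58, 2), (59, 2), (60, 3), (62, 3), (64, 2), (65, 3), (67, 2)]

/-- Rewriting moves. -/
def mvSpider9 : List (Nat × Nat) :=
  [
  (68, 1), (51, 2), (52, 2), (53, 2), (54, 2), (55, 3), (57, 2), (58, 2), (48, 2), (49, 2), (44, 2), (45, 2),
  (46, 3), (48, 2), (49, 3), (51, 2), (52, 2), (53, 3), (55, 2), (56, 2), (51, 2), (42, 2), (43, 2), (44, 2),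
  (45, 2), (46, 3), (48, 2), (49, 3), (51, 3), (53, 2), (54, 2), (40, 2), (41, 2), (42, 2), (39, 2), (37, 3),
  (39, 3), (41, 2), (42, 3), (44, 2), (45, 2), (46, 2), (47, 2), (48, 2), (49, 2), (35, 2), (34, 2), (35, 3),
  (37, 2), (38, 2), (39, 3), (41, 2), (42, 3), (44, 2), (45, 2), (46, 2), (37, 2), (32, 2), (33, 2), (34, 2),
  (35, 3), (37, 3), (39, 2), (40, 2), (41, 2), (42, 3), (44, 2), (39, 2), (40, 2), (38, 2), (36, 2), (30, 2),
  (31, 2), (32, 2), (33, 2), (34, 2), (35, 2), (36, 3), (38, 3), (40, 3), (42, 2), (43, 2), (44, 3), (46, 3),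
  (48, 2), (49, 3), (51, 2), (52, 2), (53, 2), (54, 3), (56, 3), (58, 3), (60, 2), (61, 2), (62, 3), (64, 2),
  (65, 3), (67, 1), (66, 1), (63, 2), (64, 2), (65, 1), (60, 2), (57, 2), (58, 3), (60, 3), (62, 2), (63, 2),
  (64, 1), (61, 2), (59, 2), (55, 2), (56, 2), (57, 2), (58, 2), (59, 3), (61, 3), (63, 1), (62, 1), (61, 2),
  (58, 2), (59, 2), (43, 2), (44, 2), (45, 2), (46, 2), (41, 3), (43, 2), (44, 2), (40, 2), (41, 3), (39, 2),
  (35, 2), (36, 2), (37, 3), (39, 3), (41, 2), (42, 3), (44, 3), (46, 3), (48, 2), (49, 2), (50, 2), (51, 2),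
  (52, 2), (53, 2), (54, 2), (55, 2), (56, 2), (57, 2), (58, 2), (59, 3), (61, 3), (63, 1), (52, 2), (53, 2),
  (51, 2), (49, 3), (51, 3), (53, 3), (55, 2), (56, 2), (57, 2), (58, 2), (59, 2), (60, 2), (61, 2), (52, 2),
  (53, 3), (55, 2), (56, 2), (57, 2), (58, 2), (50, 2), (51, 2), (52, 2), (53, 3), (55, 2), (47, 2), (45, 2),
  (46, 2), (47, 3), (49, 2), (50, 2), (51, 2), (40, 3), (42, 2), (43, 2), (44, 2), (45, 2), (46, 2), (47, 3),
  (49, 2), (29, 2), (30, 2), (31, 2), (27, 3), (29, 2), (30, 2), (31, 3), (33, 2), (34, 2), (35, 2), (36, 2),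
  (37, 2), (38, 2), (26, 2), (27, 3), (29, 2), (30, 2), (31, 3), (33, 2), (34, 2), (24, 2), (25, 2), (23, 2),
  (22, 2), (23, 3), (25, 3), (27, 2), (28, 2), (29, 2), (30, 2), (31, 3), (33, 2), (34, 3), (36, 2), (37, 2),
  (38, 3), (40, 2), (41, 2), (42, 2), (43, 2), (44, 2), (45, 2), (46, 2), (47, 3), (49, 3), (51, 3), (53, 2),
  (54, 2), (55, 3), (57, 2), (58, 3), (60, 2), (61, 3), (63, 1), (60, 2), (61, 2), (59, 2)]

/-- Rewriting moves. -/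
def mvSpider10 : List (Nat × Nat) :=
  [
  (48, 2), (46, 3), (48, 3), (50, 2), (51, 2), (52, 2), (53, 2), (54, 2), (55, 2), (56, 2), (57, 3), (59, 3),
  (61, 3), (63, 1), (56, 2), (57, 2), (58, 2), (59, 2), (55, 2), (56, 2), (49, 2), (47, 2), (45, 2), (46, 2),
  (47, 3), (49, 3), (51, 2), (52, 2), (53, 3), (55, 2), (56, 3), (58, 2), (59, 3), (61, 2), (62, 1), (61, 3),
  (63, 2), (64, 2), (60, 2), (61, 3), (58, 2), (59, 2), (57, 2), (44, 2), (45, 2), (46, 2), (47, 2), (48, 2),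
  (49, 2), (50, 3), (41, 2), (42, 2), (43, 2), (44, 2), (36, 2), (37, 2), (38, 2), (39, 3), (41, 2), (15, 2),
  (16, 2), (17, 2), (13, 3), (15, 2), (16, 2), (17, 3), (19, 2), (20, 2), (21, 2), (22, 2), (23, 2), (11, 2),
  (12, 2), (13, 3), (15, 2), (16, 2), (17, 3), (19, 2), (20, 2), (11, 2), (9, 3), (11, 3), (13, 2), (14, 2),
  (15, 2), (16, 2), (17, 3), (19, 2), (20, 3), (22, 2), (23, 3), (25, 2), (26, 2), (27, 2), (28, 2), (29, 2),
  (30, 2), (31, 3), (33, 2), (34, 3), (36, 2), (37, 3), (39, 2), (40, 2), (41, 3), (43, 2), (44, 3), (46, 2),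
  (47, 2), (48, 3), (50, 2), (51, 3), (53, 2), (54, 2), (55, 2), (56, 2), (57, 3), (59, 3), (61, 2), (62, 3),
  (64, 3), (66, 1), (65, 2), (49, 3), (51, 2), (52, 2), (53, 2), (54, 2), (55, 2), (56, 2), (48, 2), (49, 3),
  (51, 2), (52, 2), (53, 2), (54, 2), (47, 2), (48, 2), (49, 3), (51, 2), (46, 2), (47, 2), (45, 2), (32, 2),
  (33, 2), (31, 2), (29, 3), (31, 3), (33, 3), (35, 2), (36, 2), (37, 2), (38, 2), (39, 2), (40, 2), (41, 2),
  (42, 2), (43, 3), (45, 3), (47, 3), (49, 2), (50, 2), (51, 3), (53, 2), (54, 3), (56, 3), (58, 2), (59, 2),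
  (60, 2), (61, 2), (62, 2), (63, 3), (65, 3), (67, 1), (62, 2), (63, 2), (57, 2), (55, 2), (42, 2), (43, 2),
  (44, 2), (45, 2), (46, 2), (47, 2), (48, 3), (41, 2), (42, 2), (34, 2), (35, 2), (32, 2), (33, 2), (30, 2),
  (31, 2), (28, 2), (29, 2), (30, 2), (31, 3), (33, 3), (35, 3), (37, 2), (38, 2), (39, 3), (41, 2), (42, 3),
  (44, 2), (45, 2), (46, 3), (48, 2), (49, 3), (51, 2), (52, 2), (53, 2), (54, 2), (55, 3), (57, 3), (59, 2),
  (60, 3), (62, 2), (63, 3), (65, 2), (66, 1), (58, 3), (60, 2), (61, 2), (62, 2), (57, 2), (58, 3), (60, 2),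
  (56, 2), (38, 2), (39, 2), (40, 2), (41, 2), (42, 2), (43, 2), (36, 3), (38, 2), (39, 2), (40, 2), (35, 2),
  (36, 3), (38, 2), (34, 2), (19, 2), (20, 2), (21, 2), (22, 2), (23, 2), (24, 2), (25, 3)]

/-- Rewriting moves. -/
def mvSpider11 : List (Nat × Nat) :=
  [
  (18, 2), (16, 3), (18, 3), (20, 2), (21, 2), (22, 2), (23, 3), (25, 2), (26, 3), (28, 2), (29, 2), (30, 2),
  (31, 2), (32, 3), (34, 3), (36, 2), (37, 2), (38, 3), (40, 3), (42, 2), (43, 3), (45, 2), (46, 2), (47, 2),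
  (48, 2), (49, 2), (50, 3), (52, 2), (53, 2), (54, 3), (56, 3), (58, 2), (59, 2), (60, 3), (62, 3), (64, 2),
  (65, 1), (53, 2), (54, 2), (55, 2), (56, 2), (57, 3), (29, 2), (30, 2), (31, 2), (32, 2), (33, 2), (34, 2),
  (35, 3), (28, 2), (29, 2), (20, 2), (21, 2), (19, 2), (17, 2), (15, 2), (16, 2), (17, 3), (19, 3), (21, 3),
  (23, 2), (24, 2), (25, 2), (26, 3), (28, 2), (29, 3), (31, 2), (32, 2), (33, 3), (35, 2), (36, 3), (38, 2),
  (39, 2), (40, 3), (42, 2), (43, 3), (45, 2), (46, 2), (47, 2), (48, 3), (50, 2), (51, 3), (53, 2), (54, 2),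
  (55, 3), (57, 2), (58, 3), (60, 2), (61, 2), (62, 3), (64, 1), (63, 1), (62, 2), (50, 2), (51, 2), (49, 2),
  (41, 2), (42, 2), (40, 2), (23, 3), (25, 2), (26, 2), (27, 2), (28, 2), (29, 2), (22, 2), (23, 3), (25, 2),
  (26, 2), (27, 2), (21, 2), (22, 2), (23, 3), (25, 2), (20, 2), (21, 2), (19, 2), (16, 2), (17, 2), (8, 2),
  (9, 2), (6, 3), (8, 2), (9, 3), (11, 2), (12, 2), (13, 2), (14, 2), (15, 2), (16, 2), (17, 3), (19, 3),
  (21, 3), (23, 2), (24, 2), (25, 3), (27, 3), (29, 3), (31, 2), (32, 2), (33, 2), (34, 2), (35, 2), (36, 2),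
  (37, 2), (38, 3), (40, 3), (42, 3), (44, 2), (45, 2), (46, 2), (47, 3), (49, 3), (51, 3), (53, 2), (54, 2),
  (55, 2), (56, 2), (57, 2), (58, 2), (59, 2), (60, 3), (62, 3), (64, 1), (63, 2), (64, 2), (65, 1), (61, 2),
  (62, 2), (63, 2), (64, 1), (63, 1), (62, 2), (63, 2), (64, 2), (65, 1), (61, 3), (63, 2), (64, 2), (60, 2),
  (61, 3), (59, 2), (57, 3), (59, 3), (61, 2), (62, 3), (64, 3), (66, 1), (56, 2), (54, 3), (56, 3), (58, 2),
  (59, 2), (60, 2), (61, 2), (62, 2), (57, 2), (55, 2), (53, 2), (54, 2), (55, 3), (57, 3), (59, 2), (52, 2),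
  (53, 2), (50, 2), (48, 2), (49, 2), (50, 3), (52, 2), (53, 3), (55, 2), (56, 2), (57, 3), (59, 3), (61, 2),
  (62, 3), (64, 2), (65, 1), (63, 3), (65, 1), (61, 2), (60, 2), (61, 3), (63, 2), (64, 1), (58, 2), (59, 2),
  (60, 2), (56, 3), (58, 2), (54, 3), (56, 2), (57, 2), (58, 3), (60, 3), (62, 2), (63, 2), (64, 1), (52, 2),
  (53, 2), (54, 2), (55, 3), (51, 2), (52, 2), (53, 3), (55, 2), (56, 3), (58, 2), (59, 2)]

/-- Rewriting moves. -/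
def mvSpider12 : List (Nat × Nat) :=
  [
  (60, 3), (62, 2), (63, 1), (61, 2), (62, 1), (60, 2), (58, 2), (44, 3), (46, 2), (47, 2), (48, 2), (49, 2),
  (50, 2), (43, 2), (44, 3), (46, 2), (47, 2), (41, 2), (42, 2), (43, 2), (44, 3), (46, 2), (47, 3), (49, 2),
  (50, 3), (52, 2), (53, 2), (54, 2), (55, 2), (56, 2), (57, 2), (58, 3), (60, 3), (62, 2), (57, 2), (58, 2),
  (39, 2), (40, 2), (41, 2), (42, 2), (43, 2), (44, 3), (46, 2), (47, 3), (49, 2), (50, 3), (52, 2), (53, 2),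
  (54, 2), (55, 3), (57, 2), (58, 3), (60, 2), (45, 2), (46, 2), (44, 2), (42, 3), (44, 3), (46, 3), (48, 2),
  (49, 2), (50, 2), (51, 2), (52, 2), (53, 2), (54, 2), (55, 2), (56, 2), (47, 2), (48, 2), (45, 2), (46, 2),
  (43, 2), (44, 2), (41, 2), (42, 2), (43, 2), (44, 3), (46, 3), (48, 3), (50, 2), (51, 2), (52, 2), (39, 3),
  (41, 2), (42, 2), (43, 2), (44, 2), (38, 2), (39, 3), (41, 2), (37, 2), (35, 3), (37, 3), (39, 2), (40, 2),
  (41, 3), (43, 2), (44, 3), (46, 2), (47, 2), (48, 3), (50, 2), (34, 2), (32, 3), (34, 3), (36, 2), (37, 2),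
  (38, 2), (39, 2), (40, 2), (41, 2), (42, 2), (35, 2), (33, 2), (31, 2), (32, 2), (33, 3), (35, 3), (37, 2),
  (38, 2), (30, 2), (31, 2), (28, 2), (26, 2), (27, 2), (28, 3), (30, 2), (31, 3), (33, 2), (34, 2), (35, 3),
  (37, 2), (38, 3), (40, 2), (41, 2), (42, 3), (44, 2), (45, 2), (46, 2), (47, 2), (48, 3), (50, 3), (52, 3),
  (54, 2), (55, 2), (56, 3), (58, 2), (59, 2), (60, 3), (62, 3), (64, 1), (63, 1), (61, 2), (62, 1), (59, 2),
  (57, 3), (59, 3), (61, 1), (55, 2), (56, 2), (57, 2), (54, 2), (53, 2), (54, 3), (56, 2), (57, 3), (59, 2),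
  (60, 2), (61, 2), (62, 2), (63, 1), (59, 3), (61, 2), (62, 2), (56, 2), (57, 2), (58, 2), (59, 3), (57, 2),
  (55, 2), (51, 2), (52, 2), (53, 2), (54, 2), (55, 3), (57, 3), (59, 2), (60, 3), (62, 3), (64, 1), (49, 2),
  (50, 2), (51, 2), (52, 2), (53, 2), (54, 2), (47, 3), (49, 2), (50, 2), (51, 2), (52, 2), (46, 2), (47, 3),
  (49, 2), (45, 2), (43, 3), (45, 3), (47, 2), (48, 2), (49, 3), (51, 2), (52, 3), (54, 3), (56, 2), (57, 2),
  (58, 2), (59, 2), (60, 2), (55, 2), (53, 2), (41, 2), (42, 2), (43, 2), (40, 2), (39, 2), (40, 3), (42, 2),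
  (43, 3), (45, 2), (46, 2), (47, 2), (48, 2), (49, 3), (51, 2), (52, 2), (53, 3), (55, 3), (57, 2), (37, 2),
  (38, 2), (39, 2), (40, 2), (41, 2), (42, 2), (43, 2), (44, 2), (45, 3), (36, 2), (37, 2)]

/-- Rewriting moves. -/
def mvSpider13 : List (Nat × Nat) :=
  [
  (38, 2), (34, 3), (36, 2), (32, 3), (34, 2), (35, 2), (36, 3), (38, 3), (40, 2), (41, 2), (42, 2), (43, 3),
  (45, 2), (46, 3), (48, 2), (49, 2), (50, 2), (51, 2), (30, 2), (31, 2), (32, 2), (33, 3), (29, 2), (30, 2),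
  (31, 3), (33, 2), (34, 3), (36, 2), (37, 2), (38, 3), (40, 2), (41, 3), (43, 2), (44, 2), (45, 2), (46, 3),
  (48, 2), (39, 2), (40, 2), (38, 2), (36, 2), (24, 2), (25, 2), (26, 2), (27, 2), (28, 2), (22, 3), (24, 2),
  (25, 2), (20, 2), (21, 2), (22, 3), (24, 2), (25, 3), (27, 2), (28, 3), (30, 2), (31, 2), (32, 2), (33, 2),
  (34, 2), (35, 2), (36, 3), (38, 3), (40, 3), (42, 2), (43, 2), (44, 2), (35, 2), (36, 2), (18, 2), (19, 2),
  (20, 2), (21, 2), (22, 3), (24, 2), (25, 3), (27, 2), (28, 3), (30, 2), (31, 2), (32, 2), (33, 3), (35, 2),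
  (36, 3), (38, 2), (39, 2), (40, 3), (42, 2), (23, 2), (24, 2), (22, 2), (20, 3), (22, 3), (24, 3), (26, 2),
  (27, 2), (28, 2), (29, 2), (30, 2), (31, 2), (32, 2), (33, 2), (34, 2), (25, 2), (26, 2), (23, 2), (24, 2),
  (21, 2), (22, 2), (13, 2), (14, 2), (15, 2), (16, 2), (17, 2), (18, 2), (19, 2), (20, 2), (21, 2), (22, 3),
  (24, 3), (26, 3), (28, 2), (29, 2), (30, 2), (17, 3), (19, 2), (20, 2), (21, 2), (22, 2), (16, 2), (17, 3),
  (19, 2), (11, 3), (13, 2), (14, 2), (15, 2), (8, 2), (9, 2), (10, 2), (11, 3), (13, 2), (2, 2), (3, 2),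
  (4, 2), (5, 2), (6, 2), (7, 2), (8, 2), (9, 2), (10, 2), (11, 3), (13, 3), (15, 3), (17, 2), (18, 2),
  (19, 3), (21, 2), (22, 3), (24, 2), (25, 2), (26, 3), (28, 2), (12, 2), (10, 3), (12, 3), (14, 2), (15, 2),
  (16, 2), (17, 2), (18, 2), (19, 2), (20, 2), (13, 2), (11, 2), (9, 2), (10, 2), (11, 3), (13, 3), (15, 2),
  (16, 2), (8, 2), (9, 2), (6, 2), (0, 3), (2, 2), (3, 2), (4, 2), (5, 2), (6, 3), (8, 2), (9, 3),
  (11, 2), (12, 2), (13, 3), (15, 2), (16, 3), (18, 2), (19, 2), (20, 3), (22, 2), (23, 2), (24, 2), (25, 2),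
  (26, 3), (28, 3), (30, 3), (32, 2), (33, 2), (34, 3), (36, 2), (37, 2), (38, 2), (39, 2), (40, 3), (42, 3),
  (44, 3), (46, 2), (47, 2), (48, 3), (50, 2), (51, 3), (53, 2), (54, 2), (55, 3), (57, 3), (59, 2), (60, 3),
  (62, 2), (63, 1), (61, 3), (63, 1), (59, 2), (58, 2), (59, 3), (61, 2), (62, 1), (56, 2), (57, 2), (58, 2),
  (54, 3), (56, 2), (52, 3), (54, 2), (55, 2), (56, 3), (58, 3), (60, 2), (61, 2), (62, 1)]

/-- Rewriting moves. -/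
def mvSpider14 : List (Nat × Nat) :=
  [
  (50, 2), (51, 2), (52, 2), (53, 3), (49, 2), (50, 2), (51, 3), (53, 2), (54, 3), (56, 2), (57, 2), (58, 3),
  (60, 2), (61, 1), (59, 2), (60, 1), (58, 2), (56, 2), (47, 2), (48, 2), (45, 3), (47, 2), (48, 3), (50, 2),
  (51, 2), (52, 2), (53, 2), (54, 2), (55, 2), (56, 3), (58, 3), (60, 2), (61, 3), (63, 1), (55, 2), (56, 2),
  (43, 2), (44, 2), (45, 3), (47, 2), (48, 3), (50, 2), (51, 2), (52, 2), (53, 3), (55, 2), (56, 3), (58, 2),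
  (59, 3), (61, 2), (62, 1), (58, 2), (59, 2), (57, 2), (41, 2), (42, 2), (43, 2), (44, 2), (39, 3), (41, 2),
  (42, 2), (38, 2), (39, 3), (37, 2), (35, 3), (37, 3), (39, 2), (40, 3), (42, 3), (44, 3), (46, 2), (47, 2),
  (48, 2), (49, 2), (50, 2), (51, 2), (52, 2), (53, 2), (54, 2), (55, 3), (57, 3), (59, 3), (61, 1), (54, 2),
  (55, 2), (56, 2), (57, 2), (53, 2), (54, 2), (45, 2), (46, 2), (43, 2), (44, 2), (41, 2), (42, 2), (33, 2),
  (34, 2), (35, 2), (32, 2), (31, 2), (32, 3), (34, 2), (35, 3), (37, 2), (38, 2), (39, 2), (40, 2), (41, 2),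
  (42, 3), (44, 3), (46, 3), (48, 2), (49, 2), (50, 2), (51, 3), (53, 2), (54, 3), (56, 2), (57, 3), (59, 2),
  (60, 2), (61, 2), (62, 2), (63, 1), (59, 3), (61, 2), (62, 2), (56, 2), (57, 2), (58, 2), (59, 3), (57, 2),
  (55, 2), (37, 3), (39, 2), (40, 2), (41, 2), (42, 2), (34, 2), (35, 2), (36, 2), (37, 3), (39, 2), (35, 2),
  (33, 2), (29, 2), (30, 2), (31, 2), (32, 2), (33, 3), (35, 3), (37, 2), (38, 2), (39, 3), (41, 2), (42, 3),
  (44, 2), (45, 2), (46, 3), (48, 2), (49, 3), (51, 2), (52, 2), (53, 2), (54, 2), (55, 3), (57, 3), (59, 2),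
  (60, 3), (62, 3), (64, 1), (63, 2), (47, 3), (49, 2), (50, 2), (51, 2), (52, 2), (53, 2), (54, 2), (46, 2),
  (47, 3), (49, 2), (50, 2), (51, 2), (52, 2), (45, 2), (46, 2), (47, 3), (49, 2), (44, 2), (45, 2), (43, 2),
  (27, 2), (28, 2), (29, 2), (30, 2), (31, 2), (32, 2), (25, 3), (27, 2), (28, 2), (29, 2), (30, 2), (24, 2),
  (25, 3), (27, 2), (23, 2), (21, 3), (23, 3), (25, 2), (26, 2), (27, 3), (29, 2), (30, 3), (32, 3), (34, 2),
  (35, 2), (36, 2), (37, 2), (38, 2), (39, 2), (40, 2), (41, 3), (43, 3), (45, 3), (47, 2), (48, 2), (49, 3),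
  (51, 2), (52, 3), (54, 3), (56, 2), (57, 2), (58, 2), (59, 2), (60, 2), (61, 3), (63, 3), (65, 1), (60, 2),
  (61, 2), (55, 2), (53, 2), (40, 2), (41, 2), (42, 2), (43, 2), (39, 2), (40, 2), (33, 2)]

/-- Rewriting moves. -/
def mvSpider15 : List (Nat × Nat) :=
  [
  (31, 2), (19, 2), (20, 2), (21, 2), (18, 2), (17, 2), (18, 3), (20, 2), (21, 3), (23, 2), (24, 2), (25, 2),
  (26, 2), (27, 3), (29, 2), (30, 2), (31, 3), (33, 3), (35, 2), (36, 2), (37, 3), (39, 2), (40, 3), (42, 2),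
  (43, 3), (45, 2), (46, 2), (47, 2), (48, 2), (49, 3), (51, 2), (52, 2), (53, 3), (55, 3), (57, 2), (58, 3),
  (60, 2), (61, 3), (63, 2), (64, 1), (56, 3), (58, 2), (59, 2), (60, 2), (55, 2), (56, 3), (58, 2), (54, 2),
  (36, 2), (37, 2), (38, 2), (39, 2), (40, 2), (41, 2), (42, 2), (43, 2), (44, 2), (45, 3), (34, 3), (36, 2),
  (37, 2), (38, 2), (33, 2), (34, 3), (36, 2), (32, 2), (15, 2), (16, 2), (17, 2), (18, 2), (19, 2), (20, 2),
  (21, 2), (22, 2), (23, 3), (14, 2), (15, 2), (16, 2), (12, 3), (14, 2), (10, 3), (12, 2), (13, 2), (14, 3),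
  (16, 3), (18, 2), (19, 2), (20, 2), (21, 3), (23, 2), (24, 3), (26, 2), (27, 2), (28, 2), (29, 2), (30, 3),
  (32, 3), (34, 2), (35, 2), (36, 3), (38, 3), (40, 2), (41, 2), (42, 2), (43, 3), (45, 2), (46, 3), (48, 2),
  (49, 2), (50, 2), (51, 2), (52, 3), (54, 3), (56, 2), (57, 2), (58, 3), (60, 3), (62, 2), (63, 2), (64, 1),
  (51, 2), (52, 2), (53, 2), (54, 2), (55, 3), (29, 2), (30, 2), (31, 2), (32, 2), (33, 3), (8, 2), (9, 2),
  (10, 2), (11, 3), (7, 2), (8, 2), (9, 3), (11, 2), (12, 3), (14, 2), (15, 2), (16, 3), (18, 2), (19, 3),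
  (21, 2), (22, 2), (23, 2), (24, 3), (26, 2), (27, 3), (29, 2), (30, 2), (31, 3), (33, 2), (34, 3), (36, 2),
  (37, 2), (38, 3), (40, 2), (41, 3), (43, 2), (44, 2), (45, 2), (46, 3), (48, 2), (49, 3), (51, 2), (52, 2),
  (53, 3), (55, 2), (56, 3), (58, 2), (59, 2), (60, 3), (62, 2), (63, 1), (61, 2), (62, 1), (65, 1), (64, 1),
  (63, 1), (62, 1), (60, 2), (61, 1), (59, 2), (60, 1), (59, 1), (58, 1), (57, 1), (56, 1), (55, 1), (54, 1),
  (53, 1), (52, 1), (48, 2), (49, 2), (50, 2), (51, 1), (50, 1), (49, 1), (47, 2), (48, 1), (43, 3), (45, 2),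
  (46, 2), (47, 1), (42, 2), (43, 3), (45, 2), (46, 1), (39, 2), (40, 2), (41, 2), (42, 2), (43, 3), (45, 1),
  (44, 1), (43, 1), (42, 1), (41, 1), (40, 1), (38, 2), (39, 1), (37, 2), (38, 1), (37, 1), (36, 1), (35, 1),
  (34, 1), (33, 1), (32, 1), (31, 1), (30, 1), (26, 2), (27, 2), (28, 2), (29, 1), (28, 1), (27, 1), (25, 2),
  (26, 1), (21, 3), (23, 2), (24, 2), (25, 1), (20, 2), (21, 3), (23, 2), (24, 1), (17, 2)]

/-- Rewriting moves. -/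
def mvSpider16 : List (Nat × Nat) :=
  [
  (18, 2), (19, 2), (20, 2), (21, 3), (23, 1), (22, 1), (21, 1), (20, 1), (19, 1), (18, 1), (16, 2), (17, 1),
  (15, 2), (16, 1), (15, 1), (14, 1), (13, 1), (12, 1), (11, 1), (10, 1), (9, 1), (8, 1), (3, 2), (4, 2),
  (5, 2), (6, 2), (7, 1), (6, 1), (5, 1), (2, 2), (3, 2), (4, 1), (3, 1), (2, 1), (1, 1), (0, 1)]

/-- Rewriting moves. -/
def mvSpider : List (Nat × Nat) :=
  mvSpider0 ++ mvSpider1 ++ mvSpider2 ++ mvSpider3 ++ mvSpider4 ++ mvSpider5 ++ mvSpider6 ++ mvSpider7 ++ mvSpider8 ++ mvSpider9 ++ mvSpider10 ++ mvSpider11 ++ mvSpider12 ++ mvSpider13 ++ mvSpider14 ++ mvSpider15 ++ mvSpider16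


end CfsgLib.Coset.Fi22.Schur
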