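import Cfsg.Agent.Coset.Fi22.Schur.Hats
import Cfsg.Agent.Coset.Fi22.Schur.CoxMoves
import Cfsg.Agent.Coset.Fi22.Schur.CubeMoves
import Cfsg.Agent.Coset.Fi22.Schur.SpiderMoves
import Cfsg.Agent.Multiplier.Reduce

/-!
The kernel of a stem extension of `Cfsg.Spor.Fi22` is cyclic of order dividing six: the value of the
spider relator has order dividing three, those of the two Coxeter relators order dividing two, and
the first of these two can be absorbed into the lift of the transposition.
-/

set_option autoImplicit false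
set_option maxRecDepth 100000
set_option Elab.async false

namespace CfsgLib.Coset.Fi22.Schur

open CfsgLib.Coset Fi22

/-- A translation. -/
def trW (i : Nat) : List Nat :=
  (trans.getD i (0, [], 0)).1 :: tpW (trans.getD i (0, [], 0)).2

/-- A hat of a triangle, as a word. -/
def triW (T : List (List Nat × Nat)) (i : Nat) : List Nat := tpW (T.getD i ([], 0))

/-- The central translation of a triangle. -/
def rW (T : List (List Nat × Nat)) : List Nat :=
  triW T 0 ++ triW T 1 ++ triW T 2 ++ triW T 1 ++ triW T 0 ++ triW T 2 ++ triW T 0 ++ triW T 1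

/-- The third power of a word. -/
def cube (w : List Nat) : List Nat := w ++ (w ++ w)

/-- A power of a word. -/
def rep (w : List Nat) (k : Nat) : List Nat := (List.replicate k w).flatten

/-- The value of the spider relator in translations. -/
def spiderTgt : List Nat :=
  cube (trW 0) ++ cube (trW 1) ++ rW triA ++ (rW triB).reverse ++ cube (trW 4).reverse

theorem spider_reduces :
    reduces mvSpider (rep spiderW 10 ++ spiderTgt.reverse) = true := by decide +kernel

theorem cubeA_reduces :
    reduces mvCube (cube (rW triA) ++ (cube (trW 2) ++ cube (trW 3).reverse).reverse) = true := by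
  decide +kernel

theorem cubeC_reduces :
    reduces mvCube (cube (rW triC) ++ (cube (trW 5) ++ cube (trW 6).reverse).reverse) = true := by
  decide +kernel

theorem coxA_reduces : reduces mvCoxA (kA ++ coxA ++ kA.reverse ++ coxA) = true := by decide +kernel

theorem coxB_reduces : reduces mvCoxB (kB ++ coxB ++ kB.reverse ++ coxB) = true := by decide +kernel

theorem trans_ok : allBelow 3 7 (fun i => cond (Nat.ble (Nat.add (trans.getD i (0, [], 0)).1 1) 9)
    (cond (Nat.ble (Nat.add (trans.getD i (0, [], 0)).2.2 1) 9)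
      (sameW ((trans.getD i (0, [], 0)).1 :: tpW (trans.getD i (0, [], 0)).2 ++
          [(trans.getD i (0, [], 0)).1])
        (tpW (trans.getD i (0, [], 0)).2 ++ ((trans.getD i (0, [], 0)).1 ::
          tpW (trans.getD i (0, [], 0)).2))) false) false) = true := by
  decide +kernel

theorem triC_ok : allBelow 2 3 (fun i => cond (Nat.ble (Nat.add (triB.getD i ([], 0)).2 1) 9)
    (cond (Nat.ble (Nat.add (triC.getD i ([], 0)).2 1) 9)
      (sameW (triW triB i) (triW triC i)) false) false) = true := by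
  decide +kernel

theorem seven_ok : allList (fun p => cond (Nat.ble (Nat.add p.2 1) 9)
      (allList (fun q => sameW (tpW p ++ tpW q) (tpW q ++ tpW p)) seven) false) seven = true ∧
    sameW (seven.flatMap tpW) [] = true ∧ seven.length = 7 := by
  refine ⟨?_, ?_, ?_⟩
  · decide +kernel
  · decide +kernel
  · decide +kernel

/-- A Coxeter relator. -/
def isCox : List Nat → Bool
  | [a, b] => a == b
  | [a, b, c, d] => a == c && b == d && a != b && !adjB a b && Nat.blt a 9 && Nat.blt b 9
  | [a, b, c, d, e, f] => a == c && a == e && b == d && b == f && adjB a b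
  | _ => false

theorem rels_cases : rels.all (fun w => isCox w || w == rep spiderW 10 || w == rep coxA 9 ||
    w == rep coxB 9) = true := by decide +kernel

theorem special_mem : rels.contains (rep spiderW 10) = true ∧ rels.contains (rep coxA 9) = true ∧
    rels.contains (rep coxB 9) = true := by
  refine ⟨?_, ?_, ?_⟩ <;> decide +kernel

theorem special_len : (rep spiderW 10).length = 90 ∧ (rep coxA 9).length = 63 ∧
    (rep coxB 9).length = 63 ∧ checkLetters 9 [rep spiderW 10, rep coxA 9, rep coxB 9] = true := by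
  refine ⟨?_, ?_, ?_, ?_⟩ <;> decide +kernel

section

variable {Γ : Type} [Group Γ] {σ : Γ →* Cfsg.Spor.Fi22} {T : Γ} {X : List Γ}

theorem cox_rel (hC : Cox X) : ∀ w : List Nat, isCox w = true → ev X w = 1 := by
  intro w h
  unfold isCox at h
  split at h
  · rename_i a b
    rw [beq_iff_eq] at h
    subst h
    simp only [ev_cons, ev_nil, mul_one]
    exact hC.sq a
  · rename_i a b c d
    simp only [Bool.and_eq_true, beq_iff_eq, bne_iff_ne, Bool.not_eq_true', Nat.blt_eq] at h
    obtain ⟨⟨⟨⟨⟨rfl, rfl⟩, hne⟩, hadj⟩, ha⟩, hb⟩ := h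
    simp only [ev_cons, ev_nil, mul_one]
    calc fl X a * (fl X b * (fl X a * fl X b))
        = fl X a * (fl X b * (fl X b * fl X a)) := by rw [hC.comm a b ha hb hne hadj]
      _ = fl X a * ((fl X b * fl X b) * fl X a) := by group
      _ = 1 := by rw [hC.sq b, one_mul, hC.sq a]
  · rename_i a b c d e f
    simp only [Bool.and_eq_true, beq_iff_eq] at h
    obtain ⟨⟨⟨⟨rfl, rfl⟩, rfl⟩, rfl⟩, hadj⟩ := h
    simp only [ev_cons, ev_nil, mul_one]
    calc fl X a * (fl X b * (fl X a * (fl X b * (fl X a * fl X b))))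
        = fl X a * fl X b * fl X a * (fl X b * fl X a * fl X b) := by group
      _ = fl X b * fl X a * fl X b * (fl X b * fl X a * fl X b) := by rw [hC.braid a b hadj]
      _ = fl X b * fl X a * (fl X b * fl X b) * fl X a * fl X b := by group
      _ = fl X b * (fl X a * fl X a) * fl X b := by rw [hC.sq b]; group
      _ = 1 := by rw [hC.sq a, mul_one, hC.sq b]
  · exact absurd h Bool.false_ne_true

theorem ev_cube (w : List Nat) : ev X (cube w) = ev X w * (ev X w * ev X w) := by
  simp [cube, ev_append]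

theorem cube_tr (hs : Cfsg.IsStemExtension σ) (hT : σ T = t) (hT2 : T * T = 1)
    (hX : Frame σ T X) {i : Nat} (hi : i < 7) : ev X (cube (trW i)) = 1 := by
  have hC := hX.cox hs hT hT2
  obtain ⟨h1, h2⟩ := cond_false_eq_true.mp (of_allBelow trans_ok i hi)
  obtain ⟨h2, h3⟩ := cond_false_eq_true.mp h2
  rw [ev_cube, trW]
  generalize trans.getD i (0, [], 0) = c at h1 h2 h3
  have hl : c.1 < 9 := Nat.ble_eq.mp h1
  have hY : Hat T (ev X (tpW c.2)) := hX.hat_tp hC (Nat.ble_eq.mp h2)
  have e := sameW_eq h3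
  simp only [ev_append, ev_cons, ev_nil, mul_one] at e
  have hb : fl X c.1 * ev X (tpW c.2) * fl X c.1 =
      ev X (tpW c.2) * fl X c.1 * ev X (tpW c.2) := by
    refine (hX.hat _ hl).braid hs hT hT2 hY ?_
    simp only [map_mul, hX.img _ hl, hX.map_ev]
    simpa [mul_assoc] using e
  rw [ev_cons]
  calc fl X c.1 * ev X (tpW c.2) *
        (fl X c.1 * ev X (tpW c.2) * (fl X c.1 * ev X (tpW c.2)))
      = fl X c.1 * ev X (tpW c.2) * fl X c.1 *
          (ev X (tpW c.2) * fl X c.1 * ev X (tpW c.2)) := by group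
    _ = ev X (tpW c.2) * fl X c.1 * ev X (tpW c.2) *
          (ev X (tpW c.2) * fl X c.1 * ev X (tpW c.2)) := by rw [hb]
    _ = ev X (tpW c.2) * fl X c.1 * (ev X (tpW c.2) * ev X (tpW c.2)) * fl X c.1 *
          ev X (tpW c.2) := by group
    _ = ev X (tpW c.2) * (fl X c.1 * fl X c.1) * ev X (tpW c.2) := by rw [hY.sq hT2]; group
    _ = 1 := by rw [hC.sq c.1, mul_one, hY.sq hT2]

theorem cube_rev_tr (hs : Cfsg.IsStemExtension σ) (hT : σ T = t) (hT2 : T * T = 1)
    (hX : Frame σ T X) {i : Nat} (hi : i < 7) : ev X (cube (trW i).reverse) = 1 := by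
  have h := cube_tr hs hT hT2 hX hi
  rw [ev_cube] at h
  rw [ev_cube, ev_rev_of_sq (hX.cox hs hT hT2)]
  calc (ev X (trW i))⁻¹ * ((ev X (trW i))⁻¹ * (ev X (trW i))⁻¹)
      = (ev X (trW i) * (ev X (trW i) * ev X (trW i)))⁻¹ := by group
    _ = 1 := by rw [h, inv_one]

/-- The value of the spider relator has order dividing three. -/
theorem spider_cube (hs : Cfsg.IsStemExtension σ) (hT : σ T = t) (hT2 : T * T = 1)
    (hX : Frame σ T X) :
    ev X (rep spiderW 10) ∈ σ.ker ∧ ev X (rep spiderW 10) ^ 3 = 1 := by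
  have hC := hX.cox hs hT hT2
  set v := ev X (rep spiderW 10) with hv
  have hvk : v ∈ σ.ker := by
    rw [MonoidHom.mem_ker, hv, hX.map_ev]
    exact ev_rels _ (List.contains_iff_mem.mp special_mem.1)
  refine ⟨hvk, ?_⟩
  have h1 := ev_of_reduces hC spider_reduces
  rw [ev_append, ev_rev_of_sq hC, mul_inv_eq_one, ← hv, spiderTgt] at h1
  rw [ev_append, ev_append, ev_append, ev_append, cube_tr hs hT hT2 hX (i := 0) (by decide),
    cube_tr hs hT hT2 hX (i := 1) (by decide), cube_rev_tr hs hT hT2 hX (i := 4) (by decide),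
    one_mul, one_mul, mul_one, ev_rev_of_sq hC] at h1
  set R := ev X (rW triA)
  set S := ev X (rW triB)
  have hR : R * (R * R) = 1 := by
    have h := ev_of_reduces hC cubeA_reduces
    rw [ev_append, ev_rev_of_sq hC, mul_inv_eq_one, ev_cube, ev_append,
      cube_tr hs hT hT2 hX (i := 2) (by decide), cube_rev_tr hs hT hT2 hX (i := 3) (by decide),
      one_mul] at h
    exact h
  have hS : S * (S * S) = 1 := by
    have h := ev_of_reduces hC cubeC_reduces
    rw [ev_append, ev_rev_of_sq hC, mul_inv_eq_one, ev_cube, ev_append,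
      cube_tr hs hT hT2 hX (i := 5) (by decide), cube_rev_tr hs hT hT2 hX (i := 6) (by decide),
      one_mul] at h
    have htri : ∀ i < 3, ev X (triW triB i) = ev X (triW triC i) := by
      intro i hi
      obtain ⟨a, b⟩ := cond_false_eq_true.mp (of_allBelow triC_ok i hi)
      obtain ⟨b, c⟩ := cond_false_eq_true.mp b
      refine (hX.hat_tp hC (Nat.ble_eq.mp a)).unique hs hT (hX.hat_tp hC (Nat.ble_eq.mp b)) ?_
      rw [hX.map_ev, hX.map_ev]
      exact sameW_eq c
    have e : S = ev X (rW triC) := by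
      simp only [S, rW, ev_append, htri 0 (by decide), htri 1 (by decide), htri 2 (by decide)]
    rw [e]
    exact h
  have hvc : ∀ y : Γ, Commute v y := fun y =>
    (Subgroup.mem_center_iff.mp (hs.2.1 hvk) y).symm
  have eR : R = v * S := by rw [h1, inv_mul_cancel_right]
  have key : (v * S) ^ 3 = v ^ 3 * S ^ 3 := (hvc S).mul_pow 3
  rw [← eR, pow_three, pow_three S, hR, hS, mul_one] at key
  exact key.symm

/-- The values of the Coxeter relators have order dividing two. -/
theorem coxeter_sq (hs : Cfsg.IsStemExtension σ) (hT : σ T = t) (hT2 : T * T = 1)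
    (hX : Frame σ T X) {c k : List Nat} {ms : List (Nat × Nat)}
    (hred : reduces ms (k ++ c ++ k.reverse ++ c) = true) (hm : rels.contains (rep c 9) = true) :
    ev X (rep c 9) ∈ σ.ker ∧ ev X (rep c 9) * ev X (rep c 9) = 1 := by
  have hC := hX.cox hs hT hT2
  set v := ev X (rep c 9) with hv
  have hvk : v ∈ σ.ker := by
    rw [MonoidHom.mem_ker, hv, hX.map_ev]
    exact ev_rels _ (List.contains_iff_mem.mp hm)
  refine ⟨hvk, ?_⟩
  have h := ev_of_reduces hC hred
  rw [ev_append, ev_append, ev_append, ev_rev_of_sq hC] at h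
  set u := ev X c with hu
  set g := ev X k
  have ev9 : v = u ^ 9 := by rw [hv, rep, ← pow_ev, hu]
  have e : g * u * g⁻¹ = u⁻¹ := eq_inv_of_mul_eq_one_left h
  have hfix : g * v * g⁻¹ = v := by
    rw [Subgroup.mem_center_iff.mp (hs.2.1 hvk) g, mul_inv_cancel_right]
  have : v = v⁻¹ := by
    conv_lhs => rw [← hfix]
    rw [ev9, ← conj_pow, e, inv_pow]
  nth_rewrite 1 [this]
  exact inv_mul_cancel v

theorem prod_sq {s : Γ} (hsc : ∀ y : Γ, y * s = s * y) : ∀ l : List Γ,
    (∀ x ∈ l, x * x = s) → (∀ x ∈ l, ∀ y ∈ l, x * y = y * x) →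
      l.prod * l.prod = s ^ l.length
  | [], _, _ => by simp
  | x :: l, h, hc => by
    have hxp : Commute x l.prod :=
      Commute.list_prod_right l x fun y hy => hc x (by simp) y (by simp [hy])
    have ih := prod_sq hsc l (fun y hy => h y (by simp [hy]))
      (fun y hy z hz => hc y (by simp [hy]) z (by simp [hz]))
    rw [List.prod_cons, List.length_cons, pow_succ']
    calc x * l.prod * (x * l.prod) = x * (l.prod * x) * l.prod := by group
      _ = (x * x) * (l.prod * l.prod) := by rw [← hxp.eq]; group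
      _ = s * s ^ l.length := by rw [h x (by simp), ih]

/-- Some lift of the transposition is an involution. -/
theorem exists_T (hs : Cfsg.IsStemExtension σ) : ∃ T : Γ, σ T = t ∧ T * T = 1 := by
  obtain ⟨T, hT⟩ := hs.1 t
  set s := T * T with hsdef
  have hsk : s ∈ σ.ker := by
    rw [MonoidHom.mem_ker, hsdef, map_mul, hT, ← pow_two, ← orderOf_t, pow_orderOf_eq_one]
  have hsc : ∀ y : Γ, y * s = s * y := Subgroup.mem_center_iff.mp (hs.2.1 hsk)
  obtain ⟨X, hX⟩ := exists_frame hs hT
  choose u hu using fun w : List Nat => hs.1 (ev Lg w)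
  let Y : List Nat × Nat → Γ := fun p => u p.1 * fl X p.2 * (u p.1)⁻¹
  obtain ⟨h7, hprod, hlen⟩ := seven_ok
  have hlt : ∀ q ∈ seven, q.2 < 9 := fun q hq =>
    Nat.ble_eq.mp (cond_false_eq_true.mp (allList_iff.mp h7 q hq)).1
  have hY : ∀ q ∈ seven, Hat T (Y q) ∧ σ (Y q) = ev Lg (tpW q) := fun q hq => by
    refine ⟨(hX.hat q.2 (hlt q hq)).conj _, ?_⟩
    simp only [Y, map_mul, map_inv, hu, hX.img q.2 (hlt q hq), tpW, ev_append, ev_Lg_rev,
      ev_cons, ev_nil, mul_one]
  set l := seven.map Y with hl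
  have hsq : ∀ x ∈ l, x * x = s := fun x hx => by
    obtain ⟨q, hq, rfl⟩ := List.mem_map.mp hx
    exact (hY q hq).1.sq_eq hsc
  have hcm : ∀ x ∈ l, ∀ y ∈ l, x * y = y * x := fun x hx y hy => by
    obtain ⟨a, ha, rfl⟩ := List.mem_map.mp hx
    obtain ⟨b, hb, rfl⟩ := List.mem_map.mp hy
    refine (hY b hb).1.comm hs hT ?_
    rw [(hY a ha).2, (hY b hb).2, ← ev_append, ← ev_append]
    exact sameW_eq (allList_iff.mp (cond_false_eq_true.mp (allList_iff.mp h7 a ha)).2 b hb)
  have hP : σ l.prod = 1 := by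
    have aux : ∀ m : List (List Nat × Nat), (∀ q ∈ m, q ∈ seven) →
        σ (m.map Y).prod = ev Lg (m.flatMap tpW) := by
      intro m
      induction m with
      | nil => intro _; simp
      | cons q m ih =>
        intro h
        rw [List.map_cons, List.prod_cons, map_mul, (hY q (h q (by simp))).2,
          ih (fun x hx => h x (by simp [hx])), List.flatMap_cons, ev_append]
    rw [hl, aux seven (fun q hq => hq), sameW_eq hprod, ev_nil]
  have h := prod_sq hsc l hsq hcm
  rw [hl, List.length_map, hlen, ← hl] at h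
  set w := l.prod * (s ^ 3)⁻¹ with hw
  have hwk : w ∈ σ.ker := mul_mem (MonoidHom.mem_ker.mpr hP) (inv_mem (pow_mem hsk 3))
  have hw2 : w * w = s := by
    have hc : Commute (s ^ 3)⁻¹ l.prod :=
      ((show Commute s l.prod from (hsc l.prod).symm).pow_left 3).inv_left
    calc w * w = l.prod * ((s ^ 3)⁻¹ * l.prod) * (s ^ 3)⁻¹ := by rw [hw]; group
      _ = l.prod * l.prod * ((s ^ 3)⁻¹ * (s ^ 3)⁻¹) := by rw [hc.eq]; group
      _ = s := by rw [h]; group
  refine ⟨T * w⁻¹, by rw [map_mul, map_inv, MonoidHom.mem_ker.mp hwk, inv_one, mul_one, hT], ?_⟩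
  have hc : Commute T w⁻¹ :=
    (show Commute T w from Subgroup.mem_center_iff.mp (hs.2.1 hwk) T).inv_right
  calc T * w⁻¹ * (T * w⁻¹) = T * (w⁻¹ * T) * w⁻¹ := by group
    _ = (T * T) * (w * w)⁻¹ := by rw [← hc.eq]; group
    _ = 1 := by rw [hw2, ← hsdef, mul_inv_cancel]

/-- Lifts satisfying all relators up to an element of order dividing six. -/
theorem exists_lifts (hs : Cfsg.IsStemExtension σ) :
    ∃ (u : Γ) (X : List Γ), u ∈ σ.ker ∧ u ^ 6 = 1 ∧ (∀ l < 9, σ (fl X l) = fl Lg l) ∧
      ∀ w ∈ rels, ev X w ∈ Subgroup.zpowers u := by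
  obtain ⟨T, hT, hT2⟩ := exists_T hs
  obtain ⟨X, hX⟩ := exists_frame hs hT
  obtain ⟨hvk, hv2⟩ := coxeter_sq hs hT hT2 hX coxA_reduces special_mem.2.1
  set v := ev X (rep coxA 9) with hv
  have hvc : ∀ y : Γ, y * v = v * y := Subgroup.mem_center_iff.mp (hs.2.1 hvk)
  have hT' : σ (T * v) = t := by rw [map_mul, MonoidHom.mem_ker.mp hvk, mul_one, hT]
  have hT2' : T * v * (T * v) = 1 := by
    calc T * v * (T * v) = T * (v * T) * v := by group
      _ = (T * T) * (v * v) := by rw [← hvc T]; group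
      _ = 1 := by rw [hT2, hv2, one_mul]
  let X' : List Γ := X.map (· * v)
  have hX' : Frame σ (T * v) X' := by
    refine ⟨by simp [X', hX.len], fun l hl => ?_, fun l hl => ?_⟩
    all_goals rw [fl, List.getD_eq_getElem _ _ (by simpa [X', hX.len] using hl)]
    all_goals simp only [X', List.getElem_map]
    all_goals rw [← List.getD_eq_getElem X 1 (by simpa [hX.len] using hl)]
    · obtain ⟨u, hu⟩ := hX.hat l hl
      refine ⟨u, ?_⟩
      show fl X l * v = _
      rw [hu, mul_assoc (u * T), hvc u⁻¹]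
      group
    · show σ (fl X l * v) = _
      rw [map_mul, MonoidHom.mem_ker.mp hvk, mul_one]
      exact hX.img l hl
  have hev : ∀ w : List Nat, (∀ l ∈ w, l < 9) → ev X' w = ev X w * v ^ w.length := by
    intro w
    induction w with
    | nil => intro _; simp
    | cons l w ih =>
      intro h
      have hl : l < X.length := hX.len ▸ h l (by simp)
      rw [ev_cons, ev_cons, ih fun x hx => h x (by simp [hx]), List.length_cons, pow_succ']
      have e : fl X' l = fl X l * v := by
        rw [fl, fl, List.getD_eq_getElem _ _ (by simpa [X'] using hl),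
          List.getD_eq_getElem _ _ hl]
        simp [X']
      rw [e]
      calc fl X l * v * (ev X w * v ^ w.length) = fl X l * (v * ev X w) * v ^ w.length := by group
        _ = fl X l * ev X w * (v * v ^ w.length) := by rw [← hvc (ev X w)]; group
  have hlet := letters_lt special_len.2.2.2
  have hA : ev X' (rep coxA 9) = 1 := by
    rw [hev _ (hlet _ (by simp)), special_len.2.1, ← hv,
      show (63 : ℕ) = 2 * 31 + 1 from rfl, pow_succ, pow_mul, pow_two, hv2, one_pow, one_mul]
    exact hv2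
  obtain ⟨hzk, hz3⟩ := spider_cube hs hT' hT2' hX'
  obtain ⟨hbk, hb2⟩ := coxeter_sq hs hT' hT2' hX' coxB_reduces special_mem.2.2
  set z := ev X' (rep spiderW 10) with hz
  set b := ev X' (rep coxB 9) with hb
  have hcm : Commute z b := (Subgroup.mem_center_iff.mp (hs.2.1 hbk) z)
  have hb2' : b ^ 2 = 1 := by rw [pow_two, hb2]
  refine ⟨z * b, X', mul_mem hzk hbk, ?_, hX'.img, fun w hw => ?_⟩
  · rw [hcm.mul_pow, show (6 : ℕ) = 3 * 2 from rfl, pow_mul z, hz3, one_pow, mul_comm 3 2,
      pow_mul b, hb2', one_pow, one_mul]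
  have hzm : z ∈ Subgroup.zpowers (z * b) := by
    have e : (z * b) ^ 4 = z := by
      rw [hcm.mul_pow, pow_succ z, hz3, one_mul, show (4 : ℕ) = 2 * 2 from rfl, pow_mul b, hb2',
        one_pow, mul_one]
    exact ⟨4, by simpa using e⟩
  have hbm : b ∈ Subgroup.zpowers (z * b) := by
    have e : (z * b) ^ 3 = b := by
      rw [hcm.mul_pow, hz3, one_mul, pow_succ b, hb2', one_mul]
    exact ⟨3, by simpa using e⟩
  have h := List.all_eq_true.mp rels_cases w hw
  simp only [Bool.or_eq_true, beq_iff_eq] at h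
  rcases h with ((h | rfl) | rfl) | rfl
  · rw [cox_rel (hX'.cox hs hT' hT2') w h]; exact one_mem _
  · exact hzm
  · rw [hA]; exact one_mem _
  · exact hbm

end

/-- The kernel of a stem extension is a homomorphic image of the cyclic group of order six. -/
theorem ker_image (Γ : Type) [Group Γ] [Finite Γ] (σ : Γ →* Cfsg.Spor.Fi22)
    (hs : Cfsg.IsStemExtension σ) :
    ∃ π : Multiplicative (ZMod 6) →* σ.ker, Function.Surjective π := by
  obtain ⟨u, X, huk, hu6, himg, hrel⟩ := exists_lifts hs
  have huc : u ∈ Subgroup.center Γ := hs.2.1 huk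
  set K0 := Subgroup.zpowers u with hK0
  haveI : K0.Normal := ⟨fun n hn g => by
    rw [Subgroup.mem_center_iff.mp ((Subgroup.zpowers_le.mpr huc) hn) g, mul_inv_cancel_right]
    exact hn⟩
  have hle : K0 ≤ σ.ker := Subgroup.zpowers_le.mpr huk
  let τ : Γ ⧸ K0 →* Cfsg.Spor.Fi22 := QuotientGroup.lift K0 σ hle
  have hker : τ.ker = σ.ker.map (QuotientGroup.mk' K0) := QuotientGroup.ker_lift K0 σ hle
  have hstem : Cfsg.IsStemExtension τ := by
    refine ⟨fun x => ?_, ?_, ?_⟩
    · obtain ⟨y, rfl⟩ := hs.1 x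
      exact ⟨QuotientGroup.mk y, rfl⟩
    · rw [hker]
      rintro _ ⟨z, hz, rfl⟩
      refine Subgroup.mem_center_iff.mpr fun y => ?_
      obtain ⟨y, rfl⟩ := QuotientGroup.mk'_surjective K0 y
      rw [← map_mul, ← map_mul, Subgroup.mem_center_iff.mp (hs.2.1 hz) y]
    · rw [hker]
      refine (Subgroup.map_mono hs.2.2).trans ?_
      rw [_root_.commutator_def, Subgroup.map_commutator, _root_.commutator_def]
      exact Subgroup.commutator_mono le_top le_top
  have hfl : ∀ l, fl (X.map (QuotientGroup.mk' K0)) l = QuotientGroup.mk' K0 (fl X l) := fun l => by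
    rw [fl, fl, ← List.getD_map (f := QuotientGroup.mk' K0), map_one]
  have hev : ∀ w, ev (X.map (QuotientGroup.mk' K0)) w = QuotientGroup.mk' K0 (ev X w) := by
    intro w
    induction w with
    | nil => simp
    | cons l w ih => rw [ev_cons, ev_cons, map_mul, ih, hfl]
  have hr : ∀ w ∈ pres.rels, ev (X.map (QuotientGroup.mk' K0)) w = 1 := by
    rw [rels_eq]
    intro w hw
    rw [hev, QuotientGroup.mk'_apply, QuotientGroup.eq_one_iff]
    exact hrel w hw
  let s : Cfsg.Spor.Fi22 →* Γ ⧸ K0 := pres.hom pres_ok hr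
  have hsec : ∀ x, τ (s x) = x := by
    intro x
    have hx : x ∈ Subgroup.closure {y | y ∈ Lg} := closure_Lg ▸ Subgroup.mem_top x
    induction hx using Subgroup.closure_induction with
    | mem y hy =>
      obtain ⟨l, hl, rfl⟩ := List.getElem_of_mem hy
      obtain ⟨g, hg⟩ := hix l (len_Lg ▸ hl)
      subst hg
      have e1 : s (fl Lg (ix g)) = fl (X.map (QuotientGroup.mk' K0)) (ix g) :=
        pres.hom_fl pres_ok hr g
      rw [← List.getD_eq_getElem Lg 1 hl]
      show τ (s (fl Lg (ix g))) = fl Lg (ix g)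
      rw [e1, hfl]
      exact himg _ (len_Lg ▸ hl)
    | one => simp
    | mul a b _ _ ha hb => rw [map_mul, map_mul, ha, hb]
    | inv a _ ha => rw [map_inv, map_inv, ha]
  have hbot : τ.ker = ⊥ := by
    refine CfsgLib.Multiplier.ker_eq_bot_of_complement τ hstem s.range ?_ ?_
    · rw [eq_bot_iff]
      rintro y ⟨⟨x, rfl⟩, hy⟩
      rw [Subgroup.mem_bot]
      have : x = 1 := (hsec x).symm.trans (MonoidHom.mem_ker.mp hy)
      rw [this, map_one]
    · refine eq_top_iff.mpr fun y _ => ?_
      have hy : (s (τ y))⁻¹ * y ∈ τ.ker := by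
        rw [MonoidHom.mem_ker, map_mul, map_inv, hsec, inv_mul_cancel]
      rw [show y = s (τ y) * ((s (τ y))⁻¹ * y) by group]
      exact Subgroup.mul_mem_sup ⟨τ y, rfl⟩ hy
  let e : ℤ →+ Additive σ.ker := zmultiplesHom (Additive σ.ker) (Additive.ofMul ⟨u, huk⟩)
  have he6 : e (6 : ℕ) = 0 := by
    show ((6 : ℕ) : ℤ) • Additive.ofMul (⟨u, huk⟩ : σ.ker) = 0
    rw [natCast_zsmul, ← ofMul_pow]
    exact congrArg Additive.ofMul (Subtype.ext hu6)
  let π : Multiplicative (ZMod 6) →* σ.ker :=
    AddMonoidHom.toMultiplicativeLeft (ZMod.lift 6 ⟨e, he6⟩)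
  refine ⟨π, fun x => ?_⟩
  have hx : (x : Γ) ∈ K0 := by
    have h : (QuotientGroup.mk' K0 (x : Γ)) ∈ τ.ker := hker ▸ ⟨x, x.2, rfl⟩
    rw [hbot, Subgroup.mem_bot] at h
    exact (QuotientGroup.eq_one_iff _).mp h
  obtain ⟨k, hk⟩ := hx
  refine ⟨Multiplicative.ofAdd ((k : ZMod 6)), ?_⟩
  show Additive.toMul (ZMod.lift 6 ⟨e, he6⟩ (k : ZMod 6)) = x
  rw [ZMod.lift_coe]
  show Additive.toMul (k • Additive.ofMul (⟨u, huk⟩ : σ.ker)) = x
  rw [← ofMul_zpow, toMul_ofMul]
  exact Subtype.ext hk

end CfsgLib.Coset.Fi22.Schur
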